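import Groth.Agent.AttrPtLib.Points
import Groth.Prelude.Def_Magnet3
import Mathlib.AlgebraicGeometry.Morphisms.Separated
import Mathlib.AlgebraicGeometry.Morphisms.ClosedImmersion
import Mathlib.AlgebraicGeometry.Morphisms.Affine
import Mathlib.AlgebraicGeometry.IdealSheaf.Functorial

/-!
# Schematic dominance of maps of diagonalizable monoids given by injective homomorphisms
-/

set_option autoImplicit false
set_option linter.style.haveILetI false
universe u

open CategoryTheory CategoryTheory.Limits MonoidalCategory CartesianMonoidalCategory MonObj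
  AlgebraicGeometry Opposite
open Magnet
open AttrPtLib (chi chi_ext chi_map chi_comp exists_chi chi_zero chi_add)

noncomputable section

namespace MagnetLib

variable {S : Scheme.{u}}

theorem isAffine_amonS_tensor (N : Type) [AddCommMonoid N] (T : Over S) [IsAffine T.left] :
    IsAffine (AMonS S N ⊗ T).left := by
  haveI : IsAffine (AMon (ULift.{u} ℤ) N).left := inferInstanceAs (IsAffine (Spec _))
  haveI h₀ : IsAffineHom (AMon (ULift.{u} ℤ) N).hom := isAffineHom_of_isAffine _
  haveI h₁ : IsAffineHom (AMonS S N).hom := MorphismProperty.pullback_snd _ _ h₀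
  haveI : IsAffineHom (pullback.snd (AMonS S N).hom T.hom) := MorphismProperty.pullback_snd _ _ h₁
  exact isAffine_of_isAffineHom (pullback.snd (AMonS S N).hom T.hom)

/-- The comparison of the monoid algebra over the functions on the base with the functions on the product. -/
def funMap (N : Type) [AddCommMonoid N] (T : Over S) :
    MonoidAlgebra Γ(T.left, ⊤) (Multiplicative N) →+* Γ((AMonS S N ⊗ T).left, ⊤) :=
  MonoidAlgebra.liftNCRingHom (snd (AMonS S N) T).left.appTop.hom
    { toFun := fun m => chi (fst (AMonS S N) T) (Multiplicative.toAdd m)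
      map_one' := chi_zero _
      map_mul' := fun a b => chi_add _ _ _ } fun _ _ => Commute.all _ _

theorem funMap_single (N : Type) [AddCommMonoid N] (T : Over S) (n : N) (r : Γ(T.left, ⊤)) :
    funMap N T (MonoidAlgebra.single (Multiplicative.ofAdd n) r) =
      (snd (AMonS S N) T).left.appTop r * chi (fst (AMonS S N) T) n := by
  simp [funMap, MonoidAlgebra.liftNCRingHom]

theorem bijective_funMap (N : Type) [AddCommMonoid N] (T : Over S) [IsAffine T.left] :
    Function.Bijective (funMap N T) := by
  let R := MonoidAlgebra Γ(T.left, ⊤) (Multiplicative N)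
  let c : CommRingCat.{u} := CommRingCat.of R
  let b : Spec c ⟶ T.left :=
    Spec.map (CommRingCat.ofHom (MonoidAlgebra.singleOneRingHom : Γ(T.left, ⊤) →+* R)) ≫ T.left.isoSpec.inv
  let W : Over S := Over.mk (b ≫ T.hom)
  let bT : W ⟶ T := Over.homMk b rfl
  let G := (Scheme.ΓSpecIso c).inv.hom
  obtain ⟨g, hg⟩ := exists_chi (S := S) (M := N) W (G.toMonoidHom.comp (MonoidAlgebra.of Γ(T.left, ⊤) (Multiplicative N)))
  let q : W ⟶ AMonS S N ⊗ T := lift g bT
  haveI := isAffine_amonS_tensor N T
  have hbT : ∀ r : Γ(T.left, ⊤), bT.left.appTop r = G (MonoidAlgebra.single 1 r) := fun r => by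
    have h1 : T.left.isoSpec.inv.appTop = (Scheme.ΓSpecIso Γ(T.left, ⊤)).inv := by
      simp [Scheme.isoSpec, Scheme.toSpecΓ_appTop]
    change (Spec.map _ ≫ T.left.isoSpec.inv).appTop r = _
    rw [Scheme.Hom.comp_appTop, h1, ← Scheme.ΓSpecIso_inv_naturality]
    rfl
  have hql : ∀ x, q.left.appTop (funMap N T x) = G x := by
    refine DFunLike.congr_fun (MonoidAlgebra.ringHom_ext (f := q.left.appTop.hom.comp (funMap N T)) (g := G) ?_ ?_)
    · intro r
      rw [RingHom.comp_apply, show (1 : Multiplicative N) = Multiplicative.ofAdd 0 from rfl, funMap_single, chi_zero,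
        _root_.mul_one, ← ConcreteCategory.comp_apply, ← Scheme.Hom.comp_appTop, ← Over.comp_left]
      rw [lift_snd]
      exact hbT r
    · intro m
      rw [RingHom.comp_apply, show m = Multiplicative.ofAdd (Multiplicative.toAdd m) from rfl, funMap_single, map_one,
        _root_.one_mul, ← chi_comp, lift_fst, hg]
      rfl
  refine ⟨fun x y h => ?_, fun y => ?_⟩
  · have h' := congrArg (fun z => (Scheme.ΓSpecIso c).hom (q.left.appTop z)) h
    simpa [hql, G] using h'
  let zl : (AMonS S N ⊗ T).left ⟶ Spec c :=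
    (AMonS S N ⊗ T).left.toSpecΓ ≫ Spec.map (CommRingCat.ofHom (funMap N T))
  have hzl : ∀ x, zl.appTop (G x) = funMap N T x := fun x => by
    change ((AMonS S N ⊗ T).left.toSpecΓ ≫ Spec.map _).appTop ((Scheme.ΓSpecIso c).inv x) = _
    rw [Scheme.Hom.comp_appTop, ← ConcreteCategory.comp_apply, ← Category.assoc,
      ← Scheme.ΓSpecIso_inv_naturality, Category.assoc, Scheme.toSpecΓ_appTop, Iso.inv_hom_id, Category.comp_id]
    rfl
  have hzb : zl ≫ b = (snd (AMonS S N) T).left := by
    refine ext_of_isAffine (CommRingCat.hom_ext (RingHom.ext fun r => ?_))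
    change (zl ≫ bT.left).appTop r = _
    rw [Scheme.Hom.comp_appTop, ConcreteCategory.comp_apply, hbT, hzl,
      show (1 : Multiplicative N) = Multiplicative.ofAdd 0 from rfl, funMap_single, chi_zero, _root_.mul_one]
  let z : AMonS S N ⊗ T ⟶ W := Over.homMk zl (by
    change zl ≫ b ≫ T.hom = _
    rw [← Category.assoc, hzb, Over.w])
  have hzq : z ≫ q = 𝟙 _ := by
    apply CartesianMonoidalCategory.hom_ext
    · rw [Category.assoc, lift_fst, Category.id_comp]
      refine chi_ext fun n => ?_
      rw [chi_comp, hg]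
      exact (hzl _).trans (by rw [MonoidAlgebra.of_apply, funMap_single, map_one, _root_.one_mul])
    · rw [Category.assoc, lift_snd, Category.id_comp]
      exact Over.OverMorphism.ext hzb
  refine ⟨(Scheme.ΓSpecIso c).hom (q.left.appTop y), ?_⟩
  rw [← hzl]
  have h := congrArg (fun w => w.left.appTop y) hzq
  simp only [Over.comp_left, Scheme.Hom.comp_appTop, ConcreteCategory.comp_apply, Over.id_left,
    Scheme.Hom.id_appTop, ConcreteCategory.id_apply] at h
  rw [show G ((Scheme.ΓSpecIso c).hom (q.left.appTop y)) = q.left.appTop y from by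
    change ((Scheme.ΓSpecIso c).hom ≫ (Scheme.ΓSpecIso c).inv) _ = _
    rw [Iso.hom_inv_id]; rfl]
  exact h

theorem funMap_map {M N : Type} [AddCommMonoid M] [AddCommMonoid N] (f : N →+ M) (T : Over S) :
    (AMonS.map S f ▷ T).left.appTop.hom.comp (funMap N T) =
      (funMap M T).comp (MonoidAlgebra.mapDomainRingHom Γ(T.left, ⊤) (AddMonoidHom.toMultiplicative f)) := by
  refine MonoidAlgebra.ringHom_ext (fun r => ?_) fun m => ?_
  · simp only [RingHom.comp_apply, MonoidAlgebra.mapDomainRingHom_apply, MonoidAlgebra.mapDomain_single, map_one]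
    rw [show (1 : Multiplicative N) = Multiplicative.ofAdd 0 from rfl,
      show (1 : Multiplicative M) = Multiplicative.ofAdd 0 from rfl, funMap_single, funMap_single, chi_zero,
      chi_zero, _root_.mul_one, _root_.mul_one, ← ConcreteCategory.comp_apply, ← Scheme.Hom.comp_appTop,
      ← Over.comp_left, whiskerRight_snd]
  · simp only [RingHom.comp_apply, MonoidAlgebra.mapDomainRingHom_apply, MonoidAlgebra.mapDomain_single]
    rw [show m = Multiplicative.ofAdd (Multiplicative.toAdd m) from rfl, funMap_single, map_one, _root_.one_mul,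
      ← chi_comp, whiskerRight_fst, chi_map,
      show (AddMonoidHom.toMultiplicative f) (Multiplicative.ofAdd (Multiplicative.toAdd m)) =
        Multiplicative.ofAdd (f (Multiplicative.toAdd m)) from rfl, funMap_single, map_one, _root_.one_mul]

theorem injective_appTop_map {M N : Type} [AddCommMonoid M] [AddCommMonoid N] (f : N →+ M)
    (hf : Function.Injective f) (T : Over S) [IsAffine T.left] :
    Function.Injective (AMonS.map S f ▷ T).left.appTop := by
  have hsq := funMap_map f T
  intro x y h
  obtain ⟨x, rfl⟩ := (bijective_funMap N T).2 x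
  obtain ⟨y, rfl⟩ := (bijective_funMap N T).2 y
  have h1 := DFunLike.congr_fun hsq x
  have h2 := DFunLike.congr_fun hsq y
  simp only [RingHom.comp_apply] at h1 h2
  rw [h1, h2] at h
  exact congrArg _ (MonoidAlgebra.mapDomain_injective (Multiplicative.toAdd.symm.injective.comp
    (hf.comp Multiplicative.toAdd.injective)) ((bijective_funMap M T).1 h))

theorem eq_of_appTop_injective {P Q X : Over S} [IsSeparated X.hom] [IsAffine Q.left] (p : P ⟶ Q)
    [QuasiCompact p.left] (hp : Function.Injective p.left.appTop) {a b : Q ⟶ X} (h : p ≫ a = p ≫ b) : a = b := by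
  let g := X.hom
  haveI : IsClosedImmersion (pullback.diagonal g) := inferInstance
  let e : Q.left ⟶ pullback g g := pullback.lift a.left b.left ((Over.w a).trans (Over.w b).symm)
  let i := pullback.fst e (pullback.diagonal g)
  haveI : IsClosedImmersion i := MorphismProperty.pullback_fst _ _ inferInstance
  have hpe : p.left ≫ e = (p.left ≫ a.left) ≫ pullback.diagonal g := by
    apply pullback.hom_ext
    · rw [Category.assoc, pullback.lift_fst, Category.assoc, pullback.diagonal_fst, Category.comp_id]
    · rw [Category.assoc, pullback.lift_snd, Category.assoc, pullback.diagonal_snd, Category.comp_id]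
      exact (congrArg CommaMorphism.left h).symm
  have hfac : pullback.lift p.left (p.left ≫ a.left) hpe ≫ i = p.left := pullback.lift_fst _ _ _
  have hker : i.ker = ⊥ := by
    refine le_bot_iff.mp ?_
    have h0 : p.left.ker = ⊥ := by
      refine Scheme.IdealSheafData.ext_of_isAffine ?_
      rw [Scheme.Hom.ker_apply]
      exact (RingHom.injective_iff_ker_eq_bot _).mp hp
    rw [← h0, ← hfac]
    exact Scheme.Hom.le_ker_comp _ _
  haveI : IsIso i := IsClosedImmersion.isIso_of_ker_eq i (𝟙 Q.left) i (Category.comp_id _)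
    (by rw [hker]; exact (Scheme.Hom.ker_eq_bot_of_isIso (𝟙 Q.left)).symm)
  refine Over.OverMorphism.ext ((cancel_epi i).mp ?_)
  have hc : i ≫ e = pullback.snd _ _ ≫ pullback.diagonal g := pullback.condition
  have e1 := hc =≫ pullback.fst g g
  have e2 := hc =≫ pullback.snd g g
  simp only [e, Category.assoc, pullback.lift_fst, pullback.lift_snd, pullback.diagonal_fst, pullback.diagonal_snd,
    Category.comp_id] at e1 e2
  rw [e1, e2]

theorem eq_of_map_eq {M N : Type} [AddCommMonoid M] [AddCommMonoid N] (f : N →+ M) (hf : Function.Injective f)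
    {X T : Over S} [IsSeparated X.hom] {a b : AMonS S N ⊗ T ⟶ X}
    (h : (AMonS.map S f ▷ T) ≫ a = (AMonS.map S f ▷ T) ≫ b) : a = b := by
  refine Over.OverMorphism.ext (Scheme.hom_ext_of_forall _ _ fun w => ?_)
  let q := (snd (AMonS S N) T).left
  obtain ⟨V, hV, hwV, -⟩ := exists_isAffineOpen_mem_and_subset (x := q w) (U := ⊤) trivial
  let T' : Over S := Over.mk (V.ι ≫ T.hom)
  let e : T' ⟶ T := Over.homMk V.ι rfl
  haveI : IsAffine T'.left := hV
  haveI := isAffine_amonS_tensor M T'
  haveI := isAffine_amonS_tensor N T'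
  haveI : QuasiCompact (AMonS.map S f ▷ T').left := inferInstance
  have key := eq_of_appTop_injective (AMonS.map S f ▷ T') (injective_appTop_map f hf T')
    (a := (AMonS S N ◁ e) ≫ a) (b := (AMonS S N ◁ e) ≫ b)
    (by rw [← Category.assoc, ← whisker_exchange, Category.assoc, h, ← Category.assoc, whisker_exchange,
      Category.assoc])
  let O : (AMonS S N ⊗ T).left.Opens := q ⁻¹ᵁ V
  refine ⟨O, hwV, ?_⟩
  have hr : Set.range (O.ι ≫ q) ⊆ Set.range V.ι := by
    rw [Scheme.Opens.range_ι]
    rintro _ ⟨v, rfl⟩
    exact v.2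
  let R : Over S := Over.mk (O.ι ≫ (AMonS S N ⊗ T).hom)
  let z : R ⟶ AMonS S N ⊗ T := Over.homMk O.ι rfl
  let y : R ⟶ T' := Over.homMk (IsOpenImmersion.lift V.ι _ hr) (by
    change IsOpenImmersion.lift V.ι _ hr ≫ V.ι ≫ T.hom = O.ι ≫ (AMonS S N ⊗ T).hom
    rw [IsOpenImmersion.lift_fac_assoc, Category.assoc, Over.w])
  have hy : y ≫ e = z ≫ snd _ _ := Over.OverMorphism.ext (IsOpenImmersion.lift_fac _ _ hr)
  have h' := congrArg (lift (z ≫ fst _ _) y ≫ ·) key
  simp only [lift_whiskerLeft_assoc] at h'
  rw [hy, lift_comp_fst_snd] at h'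
  exact congrArg CommaMorphism.left h'

end MagnetLib
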