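import Groth.Agent.EqLiftLib.Fam
import Groth.Agent.DescLib.Fpqc
import Mathlib.AlgebraicGeometry.Morphisms.FinitePresentation

/-!
# Descent of equivariant families along fpqc covers of the parameters
-/

set_option autoImplicit false
set_option linter.style.haveILetI false
universe u

open CategoryTheory CategoryTheory.Limits MonoidalCategory CartesianMonoidalCategory MonObj
  AlgebraicGeometry Opposite
open Magnet
open EqLiftLib (IsEqvFam actFst actSnd)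

noncomputable section

namespace MagnetLib

variable {S : Scheme.{u}}

theorem fpqc_whiskerLeft (B : Over S) {T T' : Over S} (q : T' ⟶ T) [DescLib.Fpqc q.left] :
    DescLib.Fpqc (B ◁ q).left := by
  refine DescLib.Fpqc.of_isPullback (p := q.left) (g := (snd B T).left) (p₂ := (snd B T').left) ?_
  refine IsPullback.of_right ?_ (by rw [← Over.comp_left, ← Over.comp_left, whiskerLeft_snd])
    (IsPullback.of_hasPullback B.hom T.hom)
  have h' : (B ◁ q).left ≫ (fst B T).left = (fst B T').left := by rw [← Over.comp_left, whiskerLeft_fst]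
  change IsPullback ((B ◁ q).left ≫ (fst B T).left) (snd B T').left B.hom (q.left ≫ T.hom)
  rw [h', Over.w q]
  exact IsPullback.of_hasPullback B.hom T'.hom

theorem fpqc_of_fppf {X Y : Scheme.{u}} (f : X ⟶ Y) [Flat f] [Surjective f] [LocallyOfFinitePresentation f] :
    DescLib.Fpqc f :=
  ⟨Scheme.fppfPrecoverage_le_fpqcPrecoverage _ f.singleton_mem_fppfPrecoverage⟩

theorem epi_whiskerLeft (B : Over S) {T T' : Over S} (q : T' ⟶ T) [DescLib.Fpqc q.left] : Epi (B ◁ q) := by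
  haveI := fpqc_whiskerLeft B q
  exact (Over.forget S).epi_of_epi_map (show Epi (B ◁ q).left from inferInstance)

variable {M : Type} [AddCommMonoid M] {X : Over S} (a : MonAct (AMonS S M) X) {N : AddSubmonoid M}

set_option backward.isDefEq.respectTransparency.types true in
theorem whiskerLeft_actFst {T T' : Over S} (q : T' ⟶ T) (γ : AMonS S ↥N ⊗ T ⟶ X) :
    (AMonS S ↥N ◁ (AMonS S M ◁ q)) ≫ actFst γ = actFst ((AMonS S ↥N ◁ q) ≫ γ) := by
  apply hom_ext_lift₂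
  intro R b p
  rw [← lift_comp_fst_snd p, lift_whiskerLeft_assoc, lift_whiskerLeft, EqLiftLib.lift_actFst, EqLiftLib.lift_actFst,
    lift_whiskerLeft_assoc]

set_option backward.isDefEq.respectTransparency.types true in
theorem whiskerLeft_actSnd {T T' : Over S} (q : T' ⟶ T) (γ : AMonS S ↥N ⊗ T ⟶ X) :
    (AMonS S ↥N ◁ (AMonS S M ◁ q)) ≫ actSnd a γ = actSnd a ((AMonS S ↥N ◁ q) ≫ γ) := by
  apply hom_ext_lift₂
  intro R b p
  rw [← lift_comp_fst_snd p, lift_whiskerLeft_assoc, lift_whiskerLeft, EqLiftLib.lift_actSnd, EqLiftLib.lift_actSnd,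
    lift_whiskerLeft_assoc]

theorem exists_descend {T T' : Over S} (q : T' ⟶ T) [DescLib.Fpqc q.left] (γ' : AMonS S ↥N ⊗ T' ⟶ X)
    (hγ' : IsEqvFam a γ')
    (h : ∀ (R : Over S) (t₁ t₂ : R ⟶ T'), t₁ ≫ q = t₂ ≫ q →
      (AMonS S ↥N ◁ t₁) ≫ γ' = (AMonS S ↥N ◁ t₂) ≫ γ') :
    ∃ γ : AMonS S ↥N ⊗ T ⟶ X, IsEqvFam a γ ∧ (AMonS S ↥N ◁ q) ≫ γ = γ' := by
  haveI := fpqc_whiskerLeft (AMonS S ↥N) q
  have hker : ∀ {R : Scheme.{u}} (z₁ z₂ : R ⟶ ((AMonS S ↥N) ⊗ T').left),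
      z₁ ≫ ((AMonS S ↥N) ◁ q).left = z₂ ≫ ((AMonS S ↥N) ◁ q).left → z₁ ≫ γ'.left = z₂ ≫ γ'.left := by
    intro R z₁ z₂ hz
    let R' : Over S := Over.mk (z₁ ≫ ((AMonS S ↥N) ⊗ T').hom)
    let w₁ : R' ⟶ (AMonS S ↥N) ⊗ T' := Over.homMk z₁ rfl
    let w₂ : R' ⟶ (AMonS S ↥N) ⊗ T' := Over.homMk z₂ (by
      change z₂ ≫ ((AMonS S ↥N) ⊗ T').hom = z₁ ≫ ((AMonS S ↥N) ⊗ T').hom
      rw [← Over.w ((AMonS S ↥N) ◁ q), ← Category.assoc, ← hz, Category.assoc])
    have hw : w₁ ≫ ((AMonS S ↥N) ◁ q) = w₂ ≫ ((AMonS S ↥N) ◁ q) := Over.OverMorphism.ext hz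
    have hfst := congrArg (· ≫ fst _ _) hw
    have hsnd := congrArg (· ≫ snd _ _) hw
    rw [Category.assoc, Category.assoc, whiskerLeft_fst] at hfst
    rw [Category.assoc, Category.assoc, whiskerLeft_snd] at hsnd
    have h' := congrArg (lift (w₁ ≫ fst _ _) (𝟙 R') ≫ ·)
      (h R' (w₁ ≫ snd _ _) (w₂ ≫ snd _ _) (by rw [Category.assoc, Category.assoc, hsnd]))
    simp only [lift_whiskerLeft_assoc, Category.id_comp] at h'
    rw [lift_comp_fst_snd, hfst, lift_comp_fst_snd] at h'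
    exact congrArg CommaMorphism.left h'
  let γl : ((AMonS S ↥N) ⊗ T).left ⟶ X.left := EffectiveEpi.desc ((AMonS S ↥N) ◁ q).left γ'.left fun {R} z₁ z₂ hz => hker z₁ z₂ hz
  have hl : ((AMonS S ↥N) ◁ q).left ≫ γl = γ'.left := EffectiveEpi.fac _ _ _
  let γ : (AMonS S ↥N) ⊗ T ⟶ X := Over.homMk γl (by
    rw [← cancel_epi ((AMonS S ↥N) ◁ q).left, ← Category.assoc, hl, Over.w γ', Over.w ((AMonS S ↥N) ◁ q)])
  have hγ : ((AMonS S ↥N) ◁ q) ≫ γ = γ' := Over.OverMorphism.ext hl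
  refine ⟨γ, ?_, hγ⟩
  haveI := fpqc_whiskerLeft (AMonS S M) q
  haveI := epi_whiskerLeft (AMonS S ↥N) (AMonS S M ◁ q)
  rw [EqLiftLib.isEqvFam_iff, ← cancel_epi ((AMonS S ↥N) ◁ (AMonS S M ◁ q)), whiskerLeft_actFst, whiskerLeft_actSnd, hγ]
  exact (EqLiftLib.isEqvFam_iff a γ').mp hγ'

end MagnetLib
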