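import Groth.Agent.MagnetLib.Dominant
import Groth.Prelude.Def_Magnet4
import Groth.Agent.EqLiftLib.Glue
import Groth.Agent.PushLib.SpecPush

/-!
# Diagonalizable monoids glued along faces
-/

set_option autoImplicit false
set_option linter.style.haveILetI false
universe u

open CategoryTheory CategoryTheory.Limits MonoidalCategory CartesianMonoidalCategory MonObj
  AlgebraicGeometry Opposite
open Magnet
open AttrPtLib (chi chi_map chi_comp chi_zero)
open Groth.Agent.PushLib (FibSq specMap)

noncomputable section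

namespace MagnetLib

variable {S : Scheme.{u}} {M : Type} [AddCommMonoid M]

theorem coeff_faceAlgHom (R : Type u) [CommRing R] {N F : AddSubmonoid M} (hF : IsFace N F)
    (a : MonoidAlgebra R (Multiplicative ↥N)) (m : ↥F) :
    (faceAlgHom R hF a).coeff (Multiplicative.ofAdd m) =
      a.coeff (Multiplicative.ofAdd (⟨m.1, hF.le m.2⟩ : ↥N)) := by
  classical
  induction a using MonoidAlgebra.induction_linear with
  | zero => simp
  | add x y hx hy => simp [map_add, hx, hy]
  | single n r =>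
    rw [show n = Multiplicative.ofAdd (Multiplicative.toAdd n) from rfl]
    by_cases hn : ((Multiplicative.toAdd n : ↥N) : M) ∈ F
    · rw [faceAlgHom_single_of_mem R hF _ hn]
      simp only [MonoidAlgebra.coeff_single, Finsupp.single_apply, EmbeddingLike.apply_eq_iff_eq]
      refine if_congr ⟨fun h => ?_, fun h => ?_⟩ rfl rfl
      · subst h; rfl
      · exact Subtype.ext (congrArg Subtype.val h :)
    · rw [faceAlgHom_single_of_not_mem R hF _ hn]
      simp only [MonoidAlgebra.coeff_zero, Finsupp.zero_apply, MonoidAlgebra.coeff_single, Finsupp.single_apply,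
        EmbeddingLike.apply_eq_iff_eq]
      refine (if_neg fun h => hn ?_).symm
      rw [h]
      exact m.2

theorem chi_faceMap' {T : Over S} {N₀ F : AddSubmonoid M} (hF : IsFace N₀ F) (g : T ⟶ AMonS S ↥F) (n : ↥N₀) :
    chi (g ≫ AMonS.faceMap S hF) n =
      @dite _ ((n : M) ∈ F) (Classical.propDecidable _) (fun h => chi g ⟨n, h⟩) fun _ => 0 := by
  have e : AttrPtLib.adj (g ≫ AMonS.faceMap S hF) = AttrPtLib.adj g ≫ AMon.faceMap AttrPtLib.Z.{u} hF :=
    AttrPtLib.adj_map g _
  rw [chi, e, AttrPtLib.ringPt_comp_spec (AttrPtLib.adj g) (faceAlgHom AttrPtLib.Z.{u} hF).toRingHom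
    (AttrPtLib.adj g ≫ AMon.faceMap AttrPtLib.Z.{u} hF) (by rw [Over.comp_left, AMon.faceMap_left]; rfl)]
  change AttrPtLib.ringPt (AttrPtLib.adj g) (faceAlgHom AttrPtLib.Z.{u} hF
    (MonoidAlgebra.single (Multiplicative.ofAdd n) 1)) = _
  by_cases h : (n : M) ∈ F
  · rw [dif_pos h, faceAlgHom_single_of_mem _ hF n h]
    rfl
  · rw [dif_neg h, faceAlgHom_single_of_not_mem _ hF n h, map_zero]

variable {N N' L L' : AddSubmonoid M} (hNL : N ≤ L) (hN'L' : N' ≤ L') (hL : IsFace L' L) (hN : IsFace N' N)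
  (hdiff : (N' : Set M) = (L' : Set M) \ ((L : Set M) \ (N : Set M)))

/-- The fibre square of monoid algebras. -/
def faceFibSq (R : Type u) [CommRing R] :
    FibSq (MonoidAlgebra R (Multiplicative ↥N')) (MonoidAlgebra R (Multiplicative ↥N))
      (MonoidAlgebra R (Multiplicative ↥L')) (MonoidAlgebra R (Multiplicative ↥L)) where
  u := (faceAlgHom R hN).toRingHom
  v := MonoidAlgebra.mapDomainRingHom R (AddMonoidHom.toMultiplicative (AddSubmonoid.inclusion hN'L'))
  q := MonoidAlgebra.mapDomainRingHom R (AddMonoidHom.toMultiplicative (AddSubmonoid.inclusion hNL))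
  p := (faceAlgHom R hL).toRingHom
  w := by
    refine DFunLike.congr_fun (MonoidAlgebra.ringHom_ext
      (f := (MonoidAlgebra.mapDomainRingHom R (AddMonoidHom.toMultiplicative (AddSubmonoid.inclusion hNL))).comp
        (faceAlgHom R hN).toRingHom)
      (g := (faceAlgHom R hL).toRingHom.comp
        (MonoidAlgebra.mapDomainRingHom R (AddMonoidHom.toMultiplicative (AddSubmonoid.inclusion hN'L'))))
      (fun r => ?_) fun n => ?_)
    · simp only [RingHom.comp_apply, AlgHom.toRingHom_eq_coe, RingHom.coe_coe,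
        MonoidAlgebra.mapDomainRingHom_apply, MonoidAlgebra.mapDomain_single, map_one]
      rw [show (1 : Multiplicative ↥N') = Multiplicative.ofAdd 0 from rfl,
        show (1 : Multiplicative ↥L') = Multiplicative.ofAdd 0 from rfl,
        faceAlgHom_single_of_mem R hN 0 N.zero_mem, faceAlgHom_single_of_mem R hL 0 L.zero_mem,
        MonoidAlgebra.mapDomain_single]
      rfl
    · simp only [RingHom.comp_apply, AlgHom.toRingHom_eq_coe, RingHom.coe_coe,
        MonoidAlgebra.mapDomainRingHom_apply, MonoidAlgebra.mapDomain_single]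
      rw [show n = Multiplicative.ofAdd (Multiplicative.toAdd n) from rfl,
        show (AddMonoidHom.toMultiplicative (AddSubmonoid.inclusion hN'L'))
            (Multiplicative.ofAdd (Multiplicative.toAdd n)) =
          Multiplicative.ofAdd (AddSubmonoid.inclusion hN'L' (Multiplicative.toAdd n)) from rfl]
      by_cases hn : ((Multiplicative.toAdd n : ↥N') : M) ∈ N
      · rw [faceAlgHom_single_of_mem R hN _ hn, faceAlgHom_single_of_mem R hL _ (hNL hn),
          MonoidAlgebra.mapDomain_single]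
        rfl
      · have hnL : ((Multiplicative.toAdd n : ↥N') : M) ∉ L := fun h => by
          have h' := hdiff.le (Multiplicative.toAdd n).2
          exact h'.2 ⟨h, hn⟩
        rw [faceAlgHom_single_of_not_mem R hN _ hn, faceAlgHom_single_of_not_mem R hL _ hnL,
          MonoidAlgebra.mapDomain_zero]
  surj x := ⟨_, DFunLike.congr_fun (faceAlgHom_comp_mapDomain R hL) x⟩
  inj x y _ h := MonoidAlgebra.mapDomain_injective
    (f := (AddMonoidHom.toMultiplicative (AddSubmonoid.inclusion hN'L')))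
    (fun p q hpq => Subtype.ext (congrArg (fun z => ((Multiplicative.toAdd z : ↥L') : M)) hpq)) h
  lift b a h := by
    classical
    let j := AddMonoidHom.toMultiplicative (AddSubmonoid.inclusion hN'L')
    let i := AddMonoidHom.toMultiplicative (AddSubmonoid.inclusion hNL)
    have hj : Function.Injective j := fun p q hpq =>
      Subtype.ext (congrArg (fun z => ((Multiplicative.toAdd z : ↥L') : M)) hpq)
    have hi : Function.Injective i := fun p q hpq =>
      Subtype.ext (congrArg (fun z => ((Multiplicative.toAdd z : ↥L) : M)) hpq)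
    let x : MonoidAlgebra R (Multiplicative ↥N') := ⟨a.coeff.comapDomain j hj.injOn⟩
    have hx : MonoidAlgebra.mapDomainRingHom R j x = a := by
      refine MonoidAlgebra.coeff_injective ?_
      change Finsupp.mapDomain j _ = a.coeff
      refine Finsupp.mapDomain_comapDomain _ hj _ fun m hm => ?_
      by_contra hc
      have hmN' : ((Multiplicative.toAdd m : ↥L') : M) ∉ N' := fun hm' =>
        hc ⟨Multiplicative.ofAdd ⟨_, hm'⟩, rfl⟩
      have hmL : ((Multiplicative.toAdd m : ↥L') : M) ∈ L ∧ ((Multiplicative.toAdd m : ↥L') : M) ∉ N := by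
        by_contra h0
        exact hmN' (hdiff.ge ⟨(Multiplicative.toAdd m).2, h0⟩)
      have h1 := congrArg (fun z => z.coeff (Multiplicative.ofAdd (⟨_, hmL.1⟩ : ↥L))) h
      simp only [AlgHom.toRingHom_eq_coe, RingHom.coe_coe, coeff_faceAlgHom] at h1
      refine Finsupp.mem_support_iff.mp hm (Eq.trans h1.symm ?_)
      change (Finsupp.mapDomain i b.coeff) _ = 0
      refine Finsupp.mapDomain_of_notMem_range _ _ ?_
      rintro ⟨c, hc'⟩
      exact hmL.2 ((congrArg (fun z => ((Multiplicative.toAdd z : ↥L) : M)) hc') ▸ (Multiplicative.toAdd c).2)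
    refine ⟨x, ?_, hx⟩
    refine MonoidAlgebra.mapDomain_injective hi ?_
    have hw := DFunLike.congr_fun (MonoidAlgebra.ringHom_ext
      (f := (MonoidAlgebra.mapDomainRingHom R i).comp (faceAlgHom R hN).toRingHom)
      (g := (faceAlgHom R hL).toRingHom.comp (MonoidAlgebra.mapDomainRingHom R j)) ?_ ?_) x
    · exact hw.trans ((congrArg (faceAlgHom R hL) hx).trans h.symm)
    · intro r
      simp only [i, j, RingHom.comp_apply, AlgHom.toRingHom_eq_coe, RingHom.coe_coe,
        MonoidAlgebra.mapDomainRingHom_apply, MonoidAlgebra.mapDomain_single, map_one]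
      rw [show (1 : Multiplicative ↥N') = Multiplicative.ofAdd 0 from rfl,
        show (1 : Multiplicative ↥L') = Multiplicative.ofAdd 0 from rfl,
        faceAlgHom_single_of_mem R hN 0 N.zero_mem, faceAlgHom_single_of_mem R hL 0 L.zero_mem,
        MonoidAlgebra.mapDomain_single]
      rfl
    · intro n
      simp only [i, j, RingHom.comp_apply, AlgHom.toRingHom_eq_coe, RingHom.coe_coe,
        MonoidAlgebra.mapDomainRingHom_apply, MonoidAlgebra.mapDomain_single]
      rw [show n = Multiplicative.ofAdd (Multiplicative.toAdd n) from rfl,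
        show (AddMonoidHom.toMultiplicative (AddSubmonoid.inclusion hN'L'))
            (Multiplicative.ofAdd (Multiplicative.toAdd n)) =
          Multiplicative.ofAdd (AddSubmonoid.inclusion hN'L' (Multiplicative.toAdd n)) from rfl]
      by_cases hn : ((Multiplicative.toAdd n : ↥N') : M) ∈ N
      · rw [faceAlgHom_single_of_mem R hN _ hn, faceAlgHom_single_of_mem R hL _ (hNL hn),
          MonoidAlgebra.mapDomain_single]
        rfl
      · have hnL : ((Multiplicative.toAdd n : ↥N') : M) ∉ L := fun h' =>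
          (hdiff.le (Multiplicative.toAdd n).2).2 ⟨h', hn⟩
        rw [faceAlgHom_single_of_not_mem R hN _ hn, faceAlgHom_single_of_not_mem R hL _ hnL,
          MonoidAlgebra.mapDomain_zero]

set_option backward.isDefEq.respectTransparency.types true in
theorem funMap_faceMap {F : AddSubmonoid M} {N₀ : AddSubmonoid M} (hF : IsFace N₀ F) (T : Over S) :
    (AMonS.faceMap S hF ▷ T).left.appTop.hom.comp (funMap ↥N₀ T) =
      (funMap ↥F T).comp (faceAlgHom Γ(T.left, ⊤) hF).toRingHom := by
  classical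
  refine MonoidAlgebra.ringHom_ext (fun r => ?_) fun n => ?_
  · simp only [RingHom.comp_apply, AlgHom.toRingHom_eq_coe, RingHom.coe_coe]
    rw [show (1 : Multiplicative ↥N₀) = Multiplicative.ofAdd 0 from rfl,
      faceAlgHom_single_of_mem _ hF 0 F.zero_mem,
      funMap_single, funMap_single, chi_zero, _root_.mul_one,
      ← ConcreteCategory.comp_apply, ← Scheme.Hom.comp_appTop, ← Over.comp_left, whiskerRight_snd,
      show (⟨((0 : ↥N₀) : M), F.zero_mem⟩ : ↥F) = 0 from rfl, chi_zero, _root_.mul_one]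
  · simp only [RingHom.comp_apply, AlgHom.toRingHom_eq_coe, RingHom.coe_coe]
    rw [show n = Multiplicative.ofAdd (Multiplicative.toAdd n) from rfl, funMap_single, map_one, _root_.one_mul,
      ← chi_comp, whiskerRight_fst, chi_faceMap']
    by_cases hn : ((Multiplicative.toAdd n : ↥N₀) : M) ∈ F
    · rw [faceAlgHom_single_of_mem _ hF _ hn, funMap_single, map_one, _root_.one_mul, dif_pos hn]
    · rw [faceAlgHom_single_of_not_mem _ hF _ hn, map_zero, dif_neg hn]

/-- Functions identify the product with the spectrum of a monoid algebra. -/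
def specIso (K : Type) [AddCommMonoid K] (T : Over S) :
    (AMonS S K ⊗ T).left ⟶ Spec (CommRingCat.of (MonoidAlgebra Γ(T.left, ⊤) (Multiplicative K))) :=
  (AMonS S K ⊗ T).left.toSpecΓ ≫ Spec.map (CommRingCat.ofHom (funMap K T))

instance isIso_specIso (K : Type) [AddCommMonoid K] (T : Over S) [IsAffine T.left] : IsIso (specIso K T) := by
  haveI := isAffine_amonS_tensor (S := S) K T
  haveI : IsIso (CommRingCat.ofHom (funMap K T)) :=
    (ConcreteCategory.isIso_iff_bijective _).mpr (bijective_funMap K T)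
  unfold specIso
  infer_instance

theorem specIso_natural {K K' : Type} [AddCommMonoid K] [AddCommMonoid K'] (T : Over S)
    (k : AMonS S K ⊗ T ⟶ AMonS S K' ⊗ T)
    (φ : MonoidAlgebra Γ(T.left, ⊤) (Multiplicative K') →+* MonoidAlgebra Γ(T.left, ⊤) (Multiplicative K))
    (h : k.left.appTop.hom.comp (funMap K' T) = (funMap K T).comp φ) :
    k.left ≫ specIso K' T = specIso K T ≫ specMap φ := by
  simp only [specIso, specMap, Category.assoc, ← Spec.map_comp, ← CommRingCat.ofHom_comp, ← h,
    Scheme.toSpecΓ_naturality_assoc]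
  rw [CommRingCat.ofHom_comp, Spec.map_comp, Spec.map_comp, CommRingCat.ofHom_hom]


include hNL hN'L' hL hN hdiff

theorem isPushout_left (T : Over S) [IsAffine T.left] :
    IsPushout (AMonS.faceMap S hL ▷ T).left (AMonS.map S (AddSubmonoid.inclusion hNL) ▷ T).left
      (AMonS.map S (AddSubmonoid.inclusion hN'L') ▷ T).left (AMonS.faceMap S hN ▷ T).left := by
  refine (faceFibSq hNL hN'L' hL hN hdiff Γ(T.left, ⊤)).isPushout.of_iso (asIso (specIso ↥L T)).symm
    (asIso (specIso ↥L' T)).symm (asIso (specIso ↥N T)).symm (asIso (specIso ↥N' T)).symm ?_ ?_ ?_ ?_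
  all_goals simp only [Iso.symm_hom, asIso_inv, IsIso.eq_inv_comp, ← Category.assoc, IsIso.comp_inv_eq]
  · exact (specIso_natural T _ _ (funMap_faceMap hL T)).symm
  · exact (specIso_natural T _ _ (funMap_map _ T)).symm
  · exact (specIso_natural T _ _ (funMap_map _ T)).symm
  · exact (specIso_natural T _ _ (funMap_faceMap hN T)).symm

theorem push_hom_ext {T X : Over S} {a b : AMonS S ↥N' ⊗ T ⟶ X}
    (h₁ : (AMonS.map S (AddSubmonoid.inclusion hN'L') ▷ T) ≫ a = (AMonS.map S (AddSubmonoid.inclusion hN'L') ▷ T) ≫ b)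
    (h₂ : (AMonS.faceMap S hN ▷ T) ≫ a = (AMonS.faceMap S hN ▷ T) ≫ b) : a = b := by
  refine EqLiftLib.hom_ext_cover (snd _ _) (fun V : T.left.affineOpens => (V : T.left.Opens))
    (iSup_affineOpens_eq_top T.left) fun V R z y hy => ?_
  let T' : Over S := Over.mk ((V : T.left.Opens).ι ≫ T.hom)
  let e : T' ⟶ T := Over.homMk (V : T.left.Opens).ι rfl
  haveI : IsAffine T'.left := V.2
  have key : (AMonS S ↥N' ◁ e) ≫ a = (AMonS S ↥N' ◁ e) ≫ b :=
    Over.OverMorphism.ext ((isPushout_left hNL hN'L' hL hN hdiff T').hom_ext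
      (congrArg CommaMorphism.left (show _ ≫ (AMonS S ↥N' ◁ e) ≫ a = _ ≫ (AMonS S ↥N' ◁ e) ≫ b by
        rw [← whisker_exchange_assoc, h₁, ← whisker_exchange_assoc]))
      (congrArg CommaMorphism.left (show _ ≫ (AMonS S ↥N' ◁ e) ≫ a = _ ≫ (AMonS S ↥N' ◁ e) ≫ b by
        rw [← whisker_exchange_assoc, h₂, ← whisker_exchange_assoc])))
  have h := congrArg (lift (z ≫ fst _ _) y ≫ ·) key
  simp only [lift_whiskerLeft_assoc] at h
  rwa [hy, lift_comp_fst_snd] at h

theorem push_exists {T X : Over S} (a : AMonS S ↥L' ⊗ T ⟶ X) (b : AMonS S ↥N ⊗ T ⟶ X)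
    (h : (AMonS.faceMap S hL ▷ T) ≫ a = (AMonS.map S (AddSubmonoid.inclusion hNL) ▷ T) ≫ b) :
    ∃ G : AMonS S ↥N' ⊗ T ⟶ X, (AMonS.map S (AddSubmonoid.inclusion hN'L') ▷ T) ≫ G = a ∧
      (AMonS.faceMap S hN ▷ T) ≫ G = b := by
  let Q := fun V : T.left.affineOpens => (V : T.left.Opens)
  let T' := fun V : T.left.affineOpens => (Over.mk ((Q V).ι ≫ T.hom) : Over S)
  let e : ∀ V, T' V ⟶ T := fun V => Over.homMk (Q V).ι rfl
  haveI : ∀ V, IsAffine (T' V).left := fun V => V.2
  have loc : ∀ V, ∃ g : AMonS S ↥N' ⊗ T' V ⟶ X,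
      (AMonS.map S (AddSubmonoid.inclusion hN'L') ▷ T' V) ≫ g = (AMonS S ↥L' ◁ e V) ≫ a ∧
      (AMonS.faceMap S hN ▷ T' V) ≫ g = (AMonS S ↥N ◁ e V) ≫ b := by
    intro V
    have hp := isPushout_left hNL hN'L' hL hN hdiff (T' V)
    have hw : (AMonS.faceMap S hL ▷ T' V).left ≫ ((AMonS S ↥L' ◁ e V) ≫ a).left =
        (AMonS.map S (AddSubmonoid.inclusion hNL) ▷ T' V).left ≫ ((AMonS S ↥N ◁ e V) ≫ b).left :=
      congrArg CommaMorphism.left (show (AMonS.faceMap S hL ▷ T' V) ≫ ((AMonS S ↥L' ◁ e V) ≫ a) =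
          (AMonS.map S (AddSubmonoid.inclusion hNL) ▷ T' V) ≫ ((AMonS S ↥N ◁ e V) ≫ b) by
        rw [← whisker_exchange_assoc, h, whisker_exchange_assoc])
    refine ⟨Over.homMk (hp.desc _ _ hw) (hp.hom_ext ?_ ?_), Over.OverMorphism.ext (hp.inl_desc _ _ hw),
      Over.OverMorphism.ext (hp.inr_desc _ _ hw)⟩
    · rw [hp.inl_desc_assoc, Over.w, Over.w]
    · rw [hp.inr_desc_assoc, Over.w, Over.w]
  choose g hg₁ hg₂ using loc
  obtain ⟨G, hG⟩ := EqLiftLib.exists_glue Q (iSup_affineOpens_eq_top T.left) g fun V V' R y y' hy => by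
    refine push_hom_ext hNL hN'L' hL hN hdiff ?_ ?_
    · rw [← whisker_exchange_assoc, hg₁, ← whisker_exchange_assoc, hg₁, ← Category.assoc,
        ← Category.assoc, ← MonoidalCategory.whiskerLeft_comp, ← MonoidalCategory.whiskerLeft_comp, hy]
    · rw [← whisker_exchange_assoc, hg₂, ← whisker_exchange_assoc, hg₂, ← Category.assoc,
        ← Category.assoc, ← MonoidalCategory.whiskerLeft_comp, ← MonoidalCategory.whiskerLeft_comp, hy]
  refine ⟨G, EqLiftLib.hom_ext_cover (snd _ _) Q (iSup_affineOpens_eq_top T.left) fun V R z y hy => ?_,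
    EqLiftLib.hom_ext_cover (snd _ _) Q (iSup_affineOpens_eq_top T.left) fun V R z y hy => ?_⟩
  · have h1 := hg₁ V
    rw [← hG V, ← whisker_exchange_assoc] at h1
    have h2 := congrArg (lift (z ≫ fst _ _) y ≫ ·) h1
    simp only [lift_whiskerLeft_assoc] at h2
    rwa [hy, lift_comp_fst_snd] at h2
  · have h1 := hg₂ V
    rw [← hG V, ← whisker_exchange_assoc] at h1
    have h2 := congrArg (lift (z ≫ fst _ _) y ≫ ·) h1
    simp only [lift_whiskerLeft_assoc] at h2
    rwa [hy, lift_comp_fst_snd] at h2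

theorem isPushout_faceMap :
    IsPushout (AMonS.faceMap S hL) (AMonS.map S (AddSubmonoid.inclusion hNL))
      (AMonS.map S (AddSubmonoid.inclusion hN'L')) (AMonS.faceMap S hN) := by
  have hw : (AMonS.faceMap S hL ▷ (𝟙_ (Over S))) ≫ (AMonS.map S (AddSubmonoid.inclusion hN'L') ▷ 𝟙_ (Over S)) =
      (AMonS.map S (AddSubmonoid.inclusion hNL) ▷ (𝟙_ (Over S))) ≫ (AMonS.faceMap S hN ▷ 𝟙_ (Over S)) := by
    haveI : IsIso (ρ_ (AMonS S ↥N')).hom := inferInstance
    refine EqLiftLib.hom_ext_cover (snd _ _) (fun V : (𝟙_ (Over S)).left.affineOpens => (V : (𝟙_ (Over S)).left.Opens))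
      (iSup_affineOpens_eq_top _) fun V R z y hy => ?_
    let T' : Over S := Over.mk ((V : (𝟙_ (Over S)).left.Opens).ι ≫ (𝟙_ (Over S)).hom)
    haveI : IsAffine T'.left := V.2
    let e : T' ⟶ 𝟙_ (Over S) := Over.homMk (V : (𝟙_ (Over S)).left.Opens).ι rfl
    have h1 : (AMonS.faceMap S hL ▷ T') ≫ (AMonS.map S (AddSubmonoid.inclusion hN'L') ▷ T') =
        (AMonS.map S (AddSubmonoid.inclusion hNL) ▷ T') ≫ (AMonS.faceMap S hN ▷ T') :=
      Over.OverMorphism.ext (isPushout_left hNL hN'L' hL hN hdiff T').w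
    have h2 := congrArg (fun k => lift (z ≫ fst _ _) y ≫ k ≫ (AMonS S ↥N' ◁ e)) h1
    simp only [Category.assoc, ← whisker_exchange, whisker_exchange_assoc] at h2
    simp only [← whisker_exchange_assoc, lift_whiskerLeft_assoc] at h2
    rwa [hy, lift_comp_fst_snd] at h2
  have w : AMonS.faceMap S hL ≫ AMonS.map S (AddSubmonoid.inclusion hN'L') =
      AMonS.map S (AddSubmonoid.inclusion hNL) ≫ AMonS.faceMap S hN := by
    have := congrArg (fun k => (ρ_ _).inv ≫ k ≫ (ρ_ _).hom) hw
    simpa [rightUnitor_naturality, rightUnitor_naturality_assoc] using this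
  choose d hd₁ hd₂ using fun s : PushoutCocone (AMonS.faceMap S hL) (AMonS.map S (AddSubmonoid.inclusion hNL)) =>
    push_exists hNL hN'L' hL hN hdiff (T := 𝟙_ (Over S)) ((ρ_ _).hom ≫ s.inl) ((ρ_ _).hom ≫ s.inr) (by
      rw [rightUnitor_naturality_assoc, rightUnitor_naturality_assoc, s.condition])
  refine ⟨⟨w⟩, ⟨PushoutCocone.IsColimit.mk w (fun s => (ρ_ _).inv ≫ d s) (fun s => ?_) (fun s => ?_)
    fun s m h1 h2 => ?_⟩⟩
  · rw [rightUnitor_inv_naturality_assoc, hd₁, Iso.inv_hom_id_assoc]
  · rw [rightUnitor_inv_naturality_assoc, hd₂, Iso.inv_hom_id_assoc]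
  · rw [← cancel_epi (ρ_ (AMonS S ↥N')).hom, Iso.hom_inv_id_assoc]
    refine push_hom_ext hNL hN'L' hL hN hdiff ?_ ?_
    · rw [rightUnitor_naturality_assoc, h1, hd₁]
    · rw [rightUnitor_naturality_assoc, h2, hd₂]

end MagnetLib
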