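import Groth.Agent.MagnetLib.Comap
import Groth.Agent.MagnetLib.FacePush
import Groth.Agent.MagnetSymLib.Grading

/-!
# The grading on functions of an affine chart with a fixed point
-/

set_option autoImplicit false
set_option linter.style.haveILetI false
universe u

open CategoryTheory CategoryTheory.Limits MonoidalCategory CartesianMonoidalCategory MonObj
  AlgebraicGeometry Opposite
open Magnet
open AttrPtLib (chi chi_ext chi_map chi_comp chi_zero chi_mul)

noncomputable section

namespace MagnetLib

set_option backward.isDefEq.respectTransparency.types true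

variable {S : Scheme.{u}} {M : Type} [AddCommMonoid M] {X : Over S} (a : MonAct (AMonS S M) X)
  [IsSeparated X.hom] [IsAffineHom X.hom] (W : Over S) [IsAffine W.left]

/-- The coaction on the functions of the product. -/
def coRing : Γ((X ⊗ W).left, ⊤) →+* MonoidAlgebra Γ((X ⊗ W).left, ⊤) (Multiplicative M) :=
  haveI := isAffine_tensor_left (X := X) W
  (RingEquiv.ofBijective (funMap M (X ⊗ W)) (bijective_funMap M (X ⊗ W))).symm.toRingHom.comp
    (coMap a W).left.appTop.hom

omit [IsSeparated X.hom] in
theorem funMap_coRing (r : Γ((X ⊗ W).left, ⊤)) :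
    funMap M (X ⊗ W) (coRing a W r) = (coMap a W).left.appTop r :=
  haveI := isAffine_tensor_left (X := X) W
  RingEquiv.apply_symm_apply (RingEquiv.ofBijective (funMap M (X ⊗ W)) (bijective_funMap M (X ⊗ W))) _

omit [IsSeparated X.hom] in
theorem coRing_snd (r : Γ(W.left, ⊤)) :
    coRing a W ((snd X W).left.appTop r) = MonoidAlgebra.single 1 ((snd X W).left.appTop r) := by
  haveI := isAffine_tensor_left (X := X) W
  apply (bijective_funMap M (X ⊗ W)).1
  rw [funMap_coRing, show (1 : Multiplicative M) = Multiplicative.ofAdd 0 from rfl, funMap_single, chi_zero,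
    _root_.mul_one, ← ConcreteCategory.comp_apply, ← Scheme.Hom.comp_appTop, ← Over.comp_left,
    ← ConcreteCategory.comp_apply, ← Scheme.Hom.comp_appTop, ← Over.comp_left, coMap, lift_snd]

omit [IsSeparated X.hom] in
theorem coRing_coassoc (r : Γ((X ⊗ W).left, ⊤)) (m : Multiplicative M) :
    coRing a W ((coRing a W r).coeff m) = MonoidAlgebra.single m ((coRing a W r).coeff m) := by
  haveI := isAffine_tensor_left (X := X) W
  haveI := isAffine_amonS_tensor M (X ⊗ W)
  let P : Over S := X ⊗ W
  have hz := funMap_coRing a W r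
  have hcomp : (AMonS S M ◁ coMap a W).left.appTop ((coMap a W).left.appTop r) =
      (mulMap (M := M) P).left.appTop ((coMap a W).left.appTop r) := by
    have h := congrArg (fun k => k.left.appTop r) (coMap_assoc a W)
    simp only [Over.comp_left, Scheme.Hom.comp_appTop, ConcreteCategory.comp_apply] at h
    exact h.symm
  have h1 := DFunLike.congr_fun (funMap_natural (M := M) (coMap a W)) (coRing a W r)
  have h2 := DFunLike.congr_fun (mulMap_funMap (M := M) P) (coRing a W r)
  simp only [RingHom.comp_apply] at h1 h2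
  rw [hz] at h1 h2
  have h3 := (bijective_funMap M (AMonS S M ⊗ P)).1 (h1.symm.trans (hcomp.trans h2))
  have h4 := congrArg (fun w => w.coeff m) h3
  simp only [coeff_diagHom] at h4
  apply (bijective_funMap M P).1
  rw [funMap_coRing]
  exact (Finsupp.mapRange_apply (hf := map_zero (coMap a W).left.appTop.hom)).symm.trans h4

omit [IsSeparated X.hom] in
theorem coRing_counit (r : Γ((X ⊗ W).left, ⊤)) : (coRing a W r).coeff.sum (fun _ v => v) = r := by
  haveI := isAffine_tensor_left (X := X) W
  let e : X ⊗ W ⟶ AMonS S M ⊗ (X ⊗ W) := lift 1 (𝟙 _)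
  have hev : ∀ z, e.left.appTop (funMap M (X ⊗ W) z) = z.coeff.sum (fun _ v => v) := by
    intro z
    induction z using MonoidAlgebra.induction_linear with
    | zero => simp
    | add z w hz hw =>
      rw [map_add, map_add, hz, hw, MonoidAlgebra.coeff_add,
        Finsupp.sum_add_index' (fun _ => rfl) (fun _ _ _ => rfl)]
    | single m v =>
      rw [MonoidAlgebra.coeff_single, Finsupp.sum_single_index rfl,
        show m = Multiplicative.ofAdd (Multiplicative.toAdd m) from rfl, funMap_single, map_mul, ← chi_comp,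
        ← ConcreteCategory.comp_apply, ← Scheme.Hom.comp_appTop, ← Over.comp_left]
      simp only [e, lift_fst, lift_snd, Over.id_left, Scheme.Hom.id_appTop]
      rw [show chi (1 : X ⊗ W ⟶ AMonS S M) (Multiplicative.toAdd m) = 1 from ?_, _root_.mul_one]
      · rfl
      · obtain ⟨g, hg⟩ := AttrPtLib.exists_chi (S := S) (M := M) (X ⊗ W) 1
        have h := chi_mul g (1 : X ⊗ W ⟶ AMonS S M) (Multiplicative.toAdd m)
        rw [_root_.mul_one, hg, MonoidHom.one_apply, _root_.one_mul] at h
        exact h.symm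
  rw [← hev, funMap_coRing, ← ConcreteCategory.comp_apply, ← Scheme.Hom.comp_appTop, ← Over.comp_left]
  have : e ≫ coMap a W = 𝟙 _ := by
    simp only [e, coMap, comp_lift, orbit_apply, lift_snd_assoc, Category.id_comp]
    rw [a.lift_one_act, lift_fst_snd]
  rw [this]
  simp

omit [IsSeparated X.hom] in
theorem orbit_coMap {T : Over S} (p : T ⟶ X ⊗ W) :
    lift (orbit a (p ≫ fst X W)) (snd (AMonS S M) T) ≫ (X ◁ (p ≫ snd X W)) = (AMonS S M ◁ p) ≫ coMap a W := by
  rw [coMap, lift_whiskerLeft, comp_lift, ← orbit_comp, whiskerLeft_snd_assoc]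

omit [IsSeparated X.hom] in
theorem coef_coRing {T : Over S} [IsAffine T.left] (p : T ⟶ X ⊗ W) (r : Γ((X ⊗ W).left, ⊤)) :
    coef a (p ≫ fst X W) ((X ◁ (p ≫ snd X W)).left.appTop r) =
      MonoidAlgebra.mapRingHom (Multiplicative M) p.left.appTop.hom (coRing a W r) := by
  apply (bijective_funMap M T).1
  have h := DFunLike.congr_fun (funMap_natural (M := M) p) (coRing a W r)
  simp only [RingHom.comp_apply] at h
  rw [← h, funMap_coef, funMap_coRing, ← ConcreteCategory.comp_apply, ← ConcreteCategory.comp_apply,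
    ← Scheme.Hom.comp_appTop, ← Scheme.Hom.comp_appTop, ← Over.comp_left, ← Over.comp_left, orbit_coMap]

omit [IsSeparated X.hom] in
theorem eval_fixed_piece {x : W ⟶ X} (hx : orbit a x = snd (AMonS S M) W ≫ x) {r : Γ((X ⊗ W).left, ⊤)}
    {m : M} (hr : coRing a W r = MonoidAlgebra.single (Multiplicative.ofAdd m) r) (hm : m ≠ 0) :
    (lift x (𝟙 W)).left.appTop r = 0 := by
  haveI := isAffine_tensor_left (X := X) W
  let e : W ⟶ X ⊗ W := lift x (𝟙 W)
  have he : (AMonS S M ◁ e) ≫ coMap a W = snd (AMonS S M) W ≫ e := by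
    simp only [e, coMap, comp_lift, ← orbit_comp, lift_fst, hx, Category.comp_id, whiskerLeft_snd_assoc, lift_snd]
  have h1 := DFunLike.congr_fun (funMap_natural (M := M) e) (coRing a W r)
  simp only [RingHom.comp_apply] at h1
  rw [funMap_coRing, ← ConcreteCategory.comp_apply, ← Scheme.Hom.comp_appTop, ← Over.comp_left, he,
    Over.comp_left, Scheme.Hom.comp_appTop, ConcreteCategory.comp_apply, hr, MonoidAlgebra.mapRingHom_single] at h1
  have h2 : funMap M W (MonoidAlgebra.single (Multiplicative.ofAdd 0) (e.left.appTop r)) =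
      funMap M W (MonoidAlgebra.single (Multiplicative.ofAdd m) (e.left.appTop r)) := by
    rw [funMap_single, chi_zero, _root_.mul_one]
    exact h1
  have h3 := congrArg (fun z => z.coeff (Multiplicative.ofAdd m)) ((bijective_funMap M W).1 h2)
  classical
  simp only [MonoidAlgebra.coeff_single, Finsupp.single_eq_same] at h3
  rw [Finsupp.single_eq_of_ne (fun e => hm (Multiplicative.ofAdd.injective e))] at h3
  exact h3.symm

variable {N : AddSubmonoid M}

theorem kills_of_ext {T : Over S} [IsAffine T.left] (y : T ⟶ X ⊗ W) (h : Ext a N (y ≫ fst X W))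
    {r : Γ((X ⊗ W).left, ⊤)} {m : M} (hr : coRing a W r = MonoidAlgebra.single (Multiplicative.ofAdd m) r)
    (hm : m ∉ N) : y.left.appTop r = 0 := by
  haveI := isAffine_tensor_left (X := X) W
  have h' := (ext_comp_iff a N y (fst X W)).mp h ((X ◁ (𝟙 _ ≫ snd X W)).left.appTop r) (Multiplicative.ofAdd m) hm
  have hc := coef_coRing a W (𝟙 (X ⊗ W)) r
  rw [Category.id_comp] at hc
  simp only [Category.id_comp] at h' hc
  rw [hc, hr, MonoidAlgebra.mapRingHom_single, MonoidAlgebra.coeff_single, Finsupp.single_eq_same] at h'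
  simpa using h'

set_option backward.isDefEq.respectTransparency.types false in
omit [IsSeparated X.hom] in
theorem ext_of_kills {T : Over S} [IsAffine T.left] (p : T ⟶ X ⊗ W)
    (h : ∀ r m, coRing a W r = MonoidAlgebra.single (Multiplicative.ofAdd m) r → m ∉ N → p.left.appTop r = 0) :
    Ext a N (p ≫ fst X W) := by
  let q := p ≫ snd X W
  haveI : IsAffine (X ⊗ W).left := isAffine_tensor_left (X := X) W
  haveI : IsAffineHom (snd X W).left :=
    MorphismProperty.pullback_snd (P := @IsAffineHom) X.hom W.hom inferInstance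
  let R := Γ(T.left, ⊤)
  let d := MonoidAlgebra.mapDomainRingHom R (AddMonoidHom.toMultiplicative N.subtype)
  have hd : Function.Injective d := MonoidAlgebra.mapDomain_injective fun p q hpq => Subtype.ext hpq
  let ed : MonoidAlgebra R (Multiplicative ↥N) ≃+* d.range :=
    RingEquiv.ofBijective d.rangeRestrict
      ⟨fun p q hpq => hd (congrArg Subtype.val hpq), d.rangeRestrict_surjective⟩
  let h₀ : Γ((X ⊗ W).left, ⊤) →+* MonoidAlgebra R (Multiplicative M) :=
    (MonoidAlgebra.mapRingHom (Multiplicative M) p.left.appTop.hom).comp (coRing a W)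
  have hr : ∀ b, h₀ b ∈ d.range := fun b => (mem_range_mapDomain_iff _).mpr fun m hm => by
    refine (Finsupp.mapRange_apply (hf := map_zero p.left.appTop.hom)).trans ?_
    exact h _ (Multiplicative.toAdd m) (coRing_coassoc a W b m) hm
  let h₁ : Γ((X ⊗ W).left, ⊤) →+* MonoidAlgebra R (Multiplicative ↥N) :=
    ed.symm.toRingHom.comp (h₀.codRestrict d.range hr)
  have hh₁ : ∀ b, d (h₁ b) = h₀ b := fun b =>
    congrArg Subtype.val (ed.apply_symm_apply (h₀.codRestrict d.range hr b))
  let h₂ : R →+* MonoidAlgebra R (Multiplicative ↥N) := MonoidAlgebra.singleOneRingHom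
  have hsq : IsPullback (X ◁ q).left (snd X T).left (snd X W).left q.left := by
    refine IsPullback.of_right ?_ (by rw [← Over.comp_left, ← Over.comp_left, whiskerLeft_snd])
      ((IsPullback.of_hasPullback X.hom W.hom))
    have h' : (X ◁ q).left ≫ (fst X W).left = (fst X T).left := by rw [← Over.comp_left, whiskerLeft_fst]
    have key := (IsPullback.of_hasPullback X.hom T.hom)
    change IsPullback ((X ◁ q).left ≫ (fst X W).left) (snd X T).left X.hom (q.left ≫ W.hom)
    rw [h', Over.w q]
    exact key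
  haveI : IsAffineHom (snd X T).left :=
    MorphismProperty.pullback_snd (P := @IsAffineHom) X.hom T.hom inferInstance
  haveI : IsAffine (X ⊗ T).left := isAffine_of_isAffineHom (snd X T).left
  have hpo := isPushout_appTop_of_isPullback hsq
  have hd2 : ∀ r, d (h₂ r) = MonoidAlgebra.single 1 r := fun r => by
    simp [d, h₂, MonoidAlgebra.singleOneRingHom]
  have w : (snd X W).left.appTop ≫ CommRingCat.ofHom h₁ = q.left.appTop ≫ CommRingCat.ofHom h₂ := by
    refine CommRingCat.hom_ext (RingHom.ext fun r => hd ?_)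
    change d (h₁ ((snd X W).left.appTop r)) = d (h₂ (q.left.appTop r))
    rw [hh₁, hd2]
    simp only [h₀, RingHom.comp_apply, coRing_snd, MonoidAlgebra.mapRingHom_single]
    congr 1
  refine (ext_iff (p ≫ fst X W)).mpr ⟨(hpo.desc (CommRingCat.ofHom h₁) (CommRingCat.ofHom h₂) w).hom, ?_⟩
  have key : hpo.desc (CommRingCat.ofHom h₁) (CommRingCat.ofHom h₂) w ≫ CommRingCat.ofHom d =
      CommRingCat.ofHom (coef a (p ≫ fst X W)) := by
    refine hpo.hom_ext ?_ ?_
    · rw [IsPushout.inl_desc_assoc]
      refine CommRingCat.hom_ext (RingHom.ext fun b => ?_)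
      exact (hh₁ b).trans (coef_coRing a W p b).symm
    · rw [IsPushout.inr_desc_assoc]
      refine CommRingCat.hom_ext (RingHom.ext fun r => ?_)
      exact (hd2 r).trans (coef_snd a (p ≫ fst X W) r).symm
  exact congrArg CommRingCat.Hom.hom key

omit [IsSeparated X.hom] in
open scoped Classical in
/-- The value on the face of an extended orbit. -/
theorem eval_face_piece {F : AddSubmonoid M} (hF : IsFace N F) {T : Over S} [IsAffine T.left] (y : T ⟶ X ⊗ W)
    {δ : AMonS S ↥N ⊗ T ⟶ X} (hδ : (AMonS.map S N.subtype ▷ T) ≫ δ = orbit a (y ≫ fst X W))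
    {r : Γ((X ⊗ W).left, ⊤)} {m : M} (hr : coRing a W r = MonoidAlgebra.single (Multiplicative.ofAdd m) r) :
    (lift (lift ((1 : T ⟶ AMonS S ↥F) ≫ AMonS.faceMap S hF) (𝟙 T) ≫ δ) (y ≫ snd X W)).left.appTop r =
      if m ∈ F then y.left.appTop r else 0 := by
  haveI := isAffine_tensor_left (X := X) W
  let H : AMonS S ↥N ⊗ T ⟶ X ⊗ W := lift δ (snd _ _ ≫ y ≫ snd X W)
  let o : T ⟶ AMonS S ↥N ⊗ T := lift ((1 : T ⟶ AMonS S ↥F) ≫ AMonS.faceMap S hF) (𝟙 T)
  have hH : (AMonS.map S N.subtype ▷ T) ≫ H = (AMonS S M ◁ y) ≫ coMap a W := by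
    simp only [H, coMap, comp_lift, hδ, ← orbit_comp, whiskerRight_snd_assoc, whiskerLeft_snd_assoc]
  obtain ⟨z, hz⟩ := (bijective_funMap ↥N T).2 (H.left.appTop r)
  have hz' : MonoidAlgebra.mapDomainRingHom Γ(T.left, ⊤) (AddMonoidHom.toMultiplicative N.subtype) z =
      MonoidAlgebra.single (Multiplicative.ofAdd m) (y.left.appTop r) := by
    apply (bijective_funMap M T).1
    have h1 := DFunLike.congr_fun (funMap_map (S := S) N.subtype T) z
    have h2 := DFunLike.congr_fun (funMap_natural (M := M) y) (coRing a W r)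
    simp only [RingHom.comp_apply] at h1 h2
    rw [hr, MonoidAlgebra.mapRingHom_single] at h2
    rw [← h1, ← h2, hz, ← hr, funMap_coRing, ← ConcreteCategory.comp_apply, ← Scheme.Hom.comp_appTop,
      ← Over.comp_left, hH, Over.comp_left, Scheme.Hom.comp_appTop]
    rfl
  have hinj : Function.Injective
      (MonoidAlgebra.mapDomainRingHom Γ(T.left, ⊤) (AddMonoidHom.toMultiplicative N.subtype)) :=
    MonoidAlgebra.mapDomain_injective fun p q hpq => Subtype.ext hpq
  have ho : o ≫ H = lift (o ≫ δ) (y ≫ snd X W) := by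
    simp only [o, H, comp_lift, lift_snd_assoc, Category.id_comp]
  rw [← ho, Over.comp_left, Scheme.Hom.comp_appTop, ConcreteCategory.comp_apply, ← hz]
  by_cases hm : m ∈ N
  · obtain rfl : z = MonoidAlgebra.single (Multiplicative.ofAdd (⟨m, hm⟩ : ↥N)) (y.left.appTop r) :=
      hinj (by rw [hz', MonoidAlgebra.mapDomainRingHom_apply, MonoidAlgebra.mapDomain_single]; rfl)
    rw [funMap_single, map_mul, ← chi_comp, ← ConcreteCategory.comp_apply, ← Scheme.Hom.comp_appTop,
      ← Over.comp_left]
    simp only [o, lift_fst, lift_snd, Over.id_left, Scheme.Hom.id_appTop, ConcreteCategory.id_apply, chi_faceMap']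
    split_ifs with hmF
    · obtain ⟨g, hg⟩ := AttrPtLib.exists_chi (S := S) (M := ↥F) T 1
      have h := chi_mul g (1 : T ⟶ AMonS S ↥F) ⟨m, hmF⟩
      rw [_root_.mul_one, hg, MonoidHom.one_apply, _root_.one_mul] at h
      rw [← h, _root_.mul_one]
    · rw [mul_zero]
  · have h0 : y.left.appTop r = 0 := by
      have := (mem_range_mapDomain_iff _).mp ⟨z, hz'⟩ (Multiplicative.ofAdd m) hm
      rwa [MonoidAlgebra.coeff_single, Finsupp.single_eq_same] at this
    obtain rfl : z = 0 := hinj (by rw [hz', h0, MonoidAlgebra.single_zero, map_zero])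
    rw [h0, map_zero, map_zero, ite_self]

end MagnetLib
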