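import Mathlib.AlgebraicGeometry.IdealSheaf.Functorial
import Mathlib.AlgebraicGeometry.Morphisms.ClosedImmersion

/-!
# Closed subschemes cut out by a local criterion on affine points
-/

set_option autoImplicit false
universe u

open CategoryTheory AlgebraicGeometry

namespace MagnetLib

variable {X : Scheme.{u}}

/-- Ideals on affine opens describing one condition on affine points form an ideal sheaf. -/
theorem exists_idealSheaf (P : ∀ R : CommRingCat.{u}, (Spec R ⟶ X) → Prop)
    (I : ∀ V : X.affineOpens, Ideal Γ(X, V))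
    (h : ∀ (V : X.affineOpens) (R : CommRingCat.{u}) (φ : Γ(X, V) ⟶ R),
      P R (Spec.map φ ≫ V.2.fromSpec) ↔ I V ≤ RingHom.ker φ.hom) :
    ∃ J : X.IdealSheafData, J.ideal = I := by
  refine ⟨{ ideal := I, map_ideal_basicOpen := fun U f => ?_ }, rfl⟩
  let W := X.affineBasicOpen f
  let r : Γ(X, U) ⟶ Γ(X, W) := X.presheaf.map (homOfLE <| X.basicOpen_le f).op
  have key : ∀ K : Ideal Γ(X, W), (I U).map r.hom ≤ K ↔ I W ≤ K := fun K => by
    let q : Γ(X, W) ⟶ CommRingCat.of (Γ(X, W) ⧸ K) := CommRingCat.ofHom (Ideal.Quotient.mk K)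
    have hq : RingHom.ker q.hom = K := Ideal.mk_ker
    have h₁ := h W _ q
    have h₂ := h U _ (r ≫ q)
    rw [Spec.map_comp, Category.assoc, U.2.map_fromSpec W.2] at h₂
    rw [hq] at h₁
    rw [CommRingCat.hom_comp, ← RingHom.comap_ker, hq, ← Ideal.map_le_iff_le_comap] at h₂
    exact h₂.symm.trans h₁
  exact le_antisymm ((key _).mpr le_rfl) ((key _).mp le_rfl)

/-- The map of the cover of a closed subscheme over an affine open. -/
theorem subschemeCover_f_ι (J : X.IdealSheafData) (V : X.affineOpens) :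
    J.subschemeCover.f V ≫ J.subschemeι =
      Spec.map (CommRingCat.ofHom (Ideal.Quotient.mk (J.ideal V))) ≫ V.2.fromSpec :=
  (J.subschemeCover_map_subschemeι V).trans (J.glueDataObjι_ι V)

/-- An affine point satisfying the equations lies on the closed subscheme. -/
theorem factors_of_le (J : X.IdealSheafData) (V : X.affineOpens) {R : CommRingCat.{u}} (φ : Γ(X, V) ⟶ R)
    (hφ : J.ideal V ≤ RingHom.ker φ.hom) :
    ∃ y : Spec R ⟶ J.subscheme, y ≫ J.subschemeι = Spec.map φ ≫ V.2.fromSpec := by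
  let ψ : CommRingCat.of (Γ(X, V) ⧸ J.ideal V) ⟶ R :=
    CommRingCat.ofHom (Ideal.Quotient.lift (J.ideal V) φ.hom hφ)
  refine ⟨Spec.map ψ ≫ J.subschemeCover.f V, ?_⟩
  refine (Category.assoc _ _ _).trans ((congrArg (Spec.map ψ ≫ ·) (subschemeCover_f_ι J V)).trans ?_)
  rw [← Category.assoc, ← Spec.map_comp]
  congr 2

end MagnetLib
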