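import Groth.Agent.MagnetLib.Coef
import Groth.Agent.MagnetLib.Closed

/-!
# Attractors in schemes affine over the base are closed subschemes
-/

set_option autoImplicit false
set_option linter.style.haveILetI false
universe u

open CategoryTheory CategoryTheory.Limits MonoidalCategory CartesianMonoidalCategory MonObj
  AlgebraicGeometry Opposite
open Magnet
open AttrPtLib (chi chi_zero)

noncomputable section

namespace MagnetLib

variable {S : Scheme.{u}} {M : Type} [AddCommMonoid M] {X : Over S} (a : MonAct (AMonS S M) X)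
  (N : AddSubmonoid M)

theorem coef_snd {W : Over S} [IsAffine W.left] (x : W ⟶ X) (r : Γ(W.left, ⊤)) :
    coef a x ((snd X W).left.appTop r) = MonoidAlgebra.single 1 r := by
  apply (bijective_funMap M W).1
  rw [funMap_coef, show (1 : Multiplicative M) = Multiplicative.ofAdd 0 from rfl, funMap_single, chi_zero,
    _root_.mul_one, ← ConcreteCategory.comp_apply, ← Scheme.Hom.comp_appTop, ← Over.comp_left, lift_snd]

set_option backward.isDefEq.respectTransparency.types false in
theorem ext_comp_iff [IsAffineHom X.hom] {W W' : Over S} [IsAffine W.left] [IsAffine W'.left] (e : W' ⟶ W)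
    (x : W ⟶ X) :
    Ext a N (e ≫ x) ↔ ∀ b (m : Multiplicative M), Multiplicative.toAdd m ∉ N →
      e.left.appTop ((coef a x b).coeff m) = 0 := by
  have hmap : ∀ b (m : Multiplicative M),
      (MonoidAlgebra.mapRingHom (Multiplicative M) e.left.appTop.hom (coef a x b)).coeff m =
        e.left.appTop ((coef a x b).coeff m) := fun b m => Finsupp.mapRange_apply (hf := map_zero e.left.appTop.hom) ..
  constructor
  · intro h b m hm
    obtain ⟨g, hg⟩ := (ext_iff (e ≫ x)).mp h
    rw [← hmap, ← coef_natural, ← DFunLike.congr_fun hg]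
    exact (mem_range_mapDomain_iff _).mp ⟨_, rfl⟩ m hm
  · intro h
    haveI : IsAffineHom (snd X W).left :=
      MorphismProperty.pullback_snd (P := @IsAffineHom) X.hom W.hom inferInstance
    haveI : IsAffineHom (snd X W').left :=
      MorphismProperty.pullback_snd (P := @IsAffineHom) X.hom W'.hom inferInstance
    haveI : IsAffine (X ⊗ W).left := isAffine_of_isAffineHom (snd X W).left
    haveI : IsAffine (X ⊗ W').left := isAffine_of_isAffineHom (snd X W').left
    let R := Γ(W'.left, ⊤)
    let d := MonoidAlgebra.mapDomainRingHom R (AddMonoidHom.toMultiplicative N.subtype)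
    have hd : Function.Injective d :=
      MonoidAlgebra.mapDomain_injective fun p q hpq => Subtype.ext hpq
    let ed : MonoidAlgebra R (Multiplicative ↥N) ≃+* d.range :=
      RingEquiv.ofBijective d.rangeRestrict
        ⟨fun p q hpq => hd (congrArg Subtype.val hpq), d.rangeRestrict_surjective⟩
    let h₀ : Γ((X ⊗ W).left, ⊤) →+* MonoidAlgebra R (Multiplicative M) :=
      (MonoidAlgebra.mapRingHom (Multiplicative M) e.left.appTop.hom).comp (coef a x)
    have hr : ∀ b, h₀ b ∈ d.range := fun b => (mem_range_mapDomain_iff _).mpr fun m hm => by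
      simp only [h₀, RingHom.comp_apply, hmap]
      exact h b m hm
    let h₁ : Γ((X ⊗ W).left, ⊤) →+* MonoidAlgebra R (Multiplicative ↥N) :=
      ed.symm.toRingHom.comp (h₀.codRestrict d.range hr)
    have hh₁ : ∀ b, d (h₁ b) = h₀ b := fun b =>
      congrArg Subtype.val (ed.apply_symm_apply (h₀.codRestrict d.range hr b))
    let h₂ : R →+* MonoidAlgebra R (Multiplicative ↥N) := MonoidAlgebra.singleOneRingHom
    have hsq : IsPullback (X ◁ e).left (snd X W').left (snd X W).left e.left := by
      refine IsPullback.of_right ?_ (by rw [← Over.comp_left, ← Over.comp_left, whiskerLeft_snd])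
        ((IsPullback.of_hasPullback X.hom W.hom))
      have h' : (X ◁ e).left ≫ (fst X W).left = (fst X W').left := by rw [← Over.comp_left, whiskerLeft_fst]
      have key := (IsPullback.of_hasPullback X.hom W'.hom)
      change IsPullback ((X ◁ e).left ≫ (fst X W).left) (snd X W').left X.hom (e.left ≫ W.hom)
      rw [h', Over.w e]
      exact key
    have hpo := isPushout_appTop_of_isPullback hsq
    have hd2 : ∀ r, d (h₂ r) = MonoidAlgebra.single 1 r := fun r => by
      simp [d, h₂, MonoidAlgebra.singleOneRingHom]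
    have w : (snd X W).left.appTop ≫ CommRingCat.ofHom h₁ = e.left.appTop ≫ CommRingCat.ofHom h₂ := by
      refine CommRingCat.hom_ext (RingHom.ext fun r => hd ?_)
      change d (h₁ ((snd X W).left.appTop r)) = d (h₂ (e.left.appTop r))
      rw [hh₁, hd2]
      simp only [h₀, RingHom.comp_apply, coef_snd, MonoidAlgebra.mapRingHom_single]
    refine (ext_iff (e ≫ x)).mpr ⟨(hpo.desc (CommRingCat.ofHom h₁) (CommRingCat.ofHom h₂) w).hom, ?_⟩
    have key : hpo.desc (CommRingCat.ofHom h₁) (CommRingCat.ofHom h₂) w ≫ CommRingCat.ofHom d =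
        CommRingCat.ofHom (coef a (e ≫ x)) := by
      refine hpo.hom_ext ?_ ?_
      · rw [IsPushout.inl_desc_assoc]
        refine CommRingCat.hom_ext (RingHom.ext fun b => ?_)
        exact (hh₁ b).trans (coef_natural a e x b).symm
      · rw [IsPushout.inr_desc_assoc]
        refine CommRingCat.hom_ext (RingHom.ext fun r => ?_)
        exact (hd2 r).trans (coef_snd a (e ≫ x) r).symm
    exact congrArg CommRingCat.Hom.hom key

/-- The universal affine point of an affine open. -/
abbrev openPt (V : X.left.affineOpens) : Over S := Over.mk (V.2.fromSpec ≫ X.hom)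

instance isAffine_openPt (V : X.left.affineOpens) : IsAffine (openPt (X := X) V).left :=
  inferInstanceAs (IsAffine (Spec _))

/-- The ideal of the attractor on an affine open. -/
def attrIdeal [IsAffineHom X.hom] (V : X.left.affineOpens) : Ideal Γ(X.left, V) :=
  Ideal.span {r | ∃ (b : Γ((X ⊗ openPt (X := X) V).left, ⊤)) (m : Multiplicative M), Multiplicative.toAdd m ∉ N ∧
    (Scheme.ΓSpecIso Γ(X.left, V)).hom
      ((coef a (Over.homMk V.2.fromSpec rfl : openPt (X := X) V ⟶ X) b).coeff m) = r}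

/-- Extendability of an affine point of the scheme. -/
def PExt (R : CommRingCat.{u}) (y : Spec R ⟶ X.left) : Prop :=
  Ext a N (Over.homMk y rfl : Over.mk (y ≫ X.hom) ⟶ X)

set_option backward.isDefEq.respectTransparency.types false in
theorem pExt_iff [IsAffineHom X.hom] (V : X.left.affineOpens) (R : CommRingCat.{u}) (φ : Γ(X.left, V) ⟶ R) :
    PExt a N R (Spec.map φ ≫ V.2.fromSpec) ↔ attrIdeal a N V ≤ RingHom.ker φ.hom := by
  let W' : Over S := Over.mk ((Spec.map φ ≫ V.2.fromSpec) ≫ X.hom)
  let e : W' ⟶ openPt (X := X) V := Over.homMk (Spec.map φ) (Category.assoc _ _ _).symm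
  haveI : IsAffine (openPt (X := X) V).left := inferInstanceAs (IsAffine (Spec _))
  haveI : IsAffine W'.left := inferInstanceAs (IsAffine (Spec _))
  have he : e ≫ (Over.homMk V.2.fromSpec rfl : openPt (X := X) V ⟶ X) =
      (Over.homMk (Spec.map φ ≫ V.2.fromSpec) rfl : W' ⟶ X) := Over.OverMorphism.ext rfl
  have h := ext_comp_iff a N e (Over.homMk V.2.fromSpec rfl : openPt (X := X) V ⟶ X)
  rw [he] at h
  refine h.trans ?_
  rw [attrIdeal, Ideal.span_le]
  have hnat : ∀ r : Γ(Spec Γ(X.left, V), ⊤),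
      φ ((Scheme.ΓSpecIso Γ(X.left, V)).hom r) = (Scheme.ΓSpecIso R).hom ((Spec.map φ).appTop r) := fun r => by
    rw [← ConcreteCategory.comp_apply, ← ConcreteCategory.comp_apply, Scheme.ΓSpecIso_naturality]
  constructor
  · rintro hz _ ⟨b, m, hm, rfl⟩
    rw [SetLike.mem_coe, RingHom.mem_ker]
    refine (hnat _).trans ?_
    change (Scheme.ΓSpecIso R).hom (e.left.appTop _) = 0
    rw [hz b m hm, map_zero]
  · intro hz b m hm
    have h1 := hz ⟨b, m, hm, rfl⟩
    rw [SetLike.mem_coe, RingHom.mem_ker] at h1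
    have h2 := (hnat _).symm.trans h1
    exact (Scheme.ΓSpecIso R).commRingCatIsoToRingEquiv.injective (h2.trans (map_zero _).symm)

/-- The attractor is cut out by a closed immersion. -/
theorem exists_closed [IsAffineHom X.hom] :
    ∃ (Z : Over S) (i : Z ⟶ X), IsClosedImmersion i.left ∧
      ∀ (T : Over S) (x : T ⟶ X), Ext a N x ↔ ∃ z : T ⟶ Z, z ≫ i = x := by
  obtain ⟨J, hJ⟩ := exists_idealSheaf (PExt a N) (attrIdeal a N) (pExt_iff a N)
  let Z : Over S := Over.mk (J.subschemeι ≫ X.hom)
  let i : Z ⟶ X := Over.homMk J.subschemeι rfl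
  haveI : IsClosedImmersion i.left := inferInstanceAs (IsClosedImmersion J.subschemeι)
  refine ⟨Z, i, ‹_›, ?_⟩
  have hi : Ext a N i := by
    refine ext_of_local i (fun V => (J.subschemeCover.f V).opensRange)
      (J.subschemeCover.openCover.isOpenCover_opensRange) fun V => ?_
    let φ : Γ(X.left, V.1) ⟶ CommRingCat.of (Γ(X.left, V.1) ⧸ J.ideal V) :=
      CommRingCat.ofHom (Ideal.Quotient.mk (J.ideal V))
    have hφ : PExt a N _ (Spec.map φ ≫ V.2.fromSpec) :=
      (pExt_iff a N V _ φ).mpr (by rw [CommRingCat.hom_ofHom, Ideal.mk_ker, hJ])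
    let f := J.subschemeCover.f V
    let O := f.opensRange
    let Q : Over S := Over.mk ((Spec.map φ ≫ V.2.fromSpec) ≫ X.hom)
    have hO' : O.ι ≫ J.subschemeι = f.isoOpensRange.inv ≫ (Spec.map φ ≫ V.2.fromSpec) :=
      ((congrArg (· ≫ J.subschemeι) f.isoOpensRange_inv_comp).symm.trans (Category.assoc _ _ _)).trans
        (congrArg (f.isoOpensRange.inv ≫ ·) (subschemeCover_f_ι J V))
    let k : Over.mk (O.ι ≫ Z.hom) ⟶ Q := Over.homMk f.isoOpensRange.inv (by
      change f.isoOpensRange.inv ≫ (Spec.map φ ≫ V.2.fromSpec) ≫ X.hom = O.ι ≫ J.subschemeι ≫ X.hom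
      exact ((Category.assoc _ _ _).symm.trans (congrArg (· ≫ X.hom) hO'.symm)).trans (Category.assoc _ _ _))
    have hk : (Over.homMk O.ι rfl : Over.mk (O.ι ≫ Z.hom) ⟶ Z) ≫ i =
        k ≫ (Over.homMk (Spec.map φ ≫ V.2.fromSpec) rfl : Q ⟶ X) := Over.OverMorphism.ext (by
      exact hO')
    rw [hk]
    exact Ext.precomp hφ k
  intro T x
  constructor
  · intro hx
    have hloc : ∀ t : T.left, ∃ (O : T.left.Opens) (_ : t ∈ O) (y : O.toScheme ⟶ J.subscheme),
        y ≫ J.subschemeι = O.ι ≫ x.left := fun t => by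
      obtain ⟨V, hV, htV, -⟩ := exists_isAffineOpen_mem_and_subset (x := x.left t) (U := ⊤) trivial
      obtain ⟨O, hO, htO, hOV⟩ := exists_isAffineOpen_mem_and_subset (x := t) (U := x.left ⁻¹ᵁ V) htV
      refine ⟨O, htO, ?_⟩
      let φ : Γ(X.left, V) ⟶ Γ(T.left, O) := x.left.appLE V O hOV
      have hsq : Spec.map φ ≫ hV.fromSpec = hO.fromSpec ≫ x.left :=
        IsAffineOpen.SpecMap_appLE_fromSpec x.left hV hO hOV
      let R : Over S := Over.mk ((Spec.map φ ≫ hV.fromSpec) ≫ X.hom)
      let r : R ⟶ T := Over.homMk hO.fromSpec (by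
        change hO.fromSpec ≫ T.hom = (Spec.map φ ≫ hV.fromSpec) ≫ X.hom
        rw [hsq, Category.assoc, Over.w x])
      have hr : r ≫ x = (Over.homMk (Spec.map φ ≫ hV.fromSpec) rfl : R ⟶ X) := Over.OverMorphism.ext hsq.symm
      have hP : PExt a N _ (Spec.map φ ≫ hV.fromSpec) := by
        unfold PExt
        rw [← hr]
        exact hx.precomp r
      have hle : J.ideal ⟨V, hV⟩ ≤ RingHom.ker φ.hom := by
        rw [hJ]
        exact (pExt_iff a N ⟨V, hV⟩ _ φ).mp hP
      obtain ⟨y, hy⟩ := factors_of_le J ⟨V, hV⟩ φ hle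
      refine ⟨hO.isoSpec.hom ≫ y, ?_⟩
      rw [Category.assoc, hy, hsq, hO.isoSpec_hom_fromSpec_assoc]
    choose O hO y hy using hloc
    have hcov : TopologicalSpace.IsOpenCover O :=
      eq_top_iff.mpr fun t _ => TopologicalSpace.Opens.mem_iSup.mpr ⟨t, hO t⟩
    let 𝒰 := T.left.openCoverOfIsOpenCover O hcov
    let zl : T.left ⟶ J.subscheme := 𝒰.glueMorphisms y fun p q => by
      refine (cancel_mono J.subschemeι).mp ?_
      refine ((Category.assoc _ _ _).trans (congrArg (pullback.fst _ _ ≫ ·) (hy p))).trans ?_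
      refine Eq.trans ?_ ((Category.assoc _ _ _).trans (congrArg (pullback.snd _ _ ≫ ·) (hy q))).symm
      exact pullback.condition_assoc _
    have hzl : zl ≫ J.subschemeι = x.left := 𝒰.hom_ext _ _ fun p =>
      ((Category.assoc _ _ _).symm.trans (congrArg (· ≫ J.subschemeι) (𝒰.ι_glueMorphisms _ _ p))).trans (hy p)
    refine ⟨Over.homMk zl (by change zl ≫ J.subschemeι ≫ X.hom = T.hom; rw [← Category.assoc, hzl, Over.w x]), ?_⟩
    exact Over.OverMorphism.ext hzl
  · rintro ⟨z, rfl⟩
    exact hi.precomp z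

/-- The attractor is representable by a closed subscheme. -/
theorem exists_representableBy [IsAffineHom X.hom] :
    ∃ (Z : Over S) (i : Z ⟶ X) (e : (Magnet.attr a N).RepresentableBy Z), IsClosedImmersion i.left ∧
      ∀ (T : Over S) (z : T ⟶ Z), (Magnet.attrToX a N).app (op T) (e.homEquiv z) = z ≫ i := by
  obtain ⟨Z, i, hi, hZ⟩ := exists_closed a N
  haveI := hi
  haveI : Mono i := (Over.forget S).mono_of_mono_map (show Mono i.left from inferInstance)
  choose ψ hψ using fun (T : Over S) (z : T ⟶ Z) => (hZ T (z ≫ i)).mpr ⟨z, rfl⟩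
  have hev : ∀ (T : Over S) (z : T ⟶ Z),
      lift (toUnit T ≫ η[AMonS S ↥N]) (𝟙 T) ≫ ψ T z = z ≫ i := fun T z => eval_of_ext (hψ T z)
  have hinv : ∀ (T : Over S) (φ : (Magnet.attr a N).obj (op T)),
      ∃ z : T ⟶ Z, z ≫ i = lift (toUnit T ≫ η[AMonS S ↥N]) (𝟙 T) ≫ φ.1 := fun T φ =>
    (hZ T _).mp ⟨φ.1, ext_of_isEqvFam φ.2⟩
  choose ρ hρ using hinv
  refine ⟨Z, i,
    { homEquiv := fun {T} =>
        { toFun := fun z => ⟨ψ T z, isEqvFam_of_ext (hψ T z)⟩
          invFun := fun φ => ρ T φ
          left_inv := fun z => by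
            rw [← cancel_mono i, hρ]
            exact hev T z
          right_inv := fun φ => Subtype.ext (ext_unique (hψ T _) (by
            rw [hρ]
            exact ext_of_isEqvFam φ.2)) }
      homEquiv_comp := fun {T T'} f g => Subtype.ext ?_ }, hi, fun T z => hev T z⟩
  refine ext_unique (hψ T (f ≫ g)) ?_
  change (AMonS.map S N.subtype ▷ T) ≫ (AMonS S ↥N ◁ f) ≫ ψ T' g = _
  rw [← whisker_exchange_assoc, hψ, ← orbit_comp, Category.assoc]

end MagnetLib
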