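import Groth.Agent.MagnetLib.Descend
import Groth.Agent.DescLib.Main
import Groth.Agent.AlgSpLib.AffineDescent

/-!
# Representability of an attractor from an affine chart over a cover of a representable functor below it
-/

set_option autoImplicit false
set_option linter.style.haveILetI false
universe u

open CategoryTheory CategoryTheory.Limits MonoidalCategory CartesianMonoidalCategory MonObj
  AlgebraicGeometry Opposite
open Magnet

noncomputable section

namespace MagnetLib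

variable {S : Scheme.{u}} {M : Type} [AddCommMonoid M] {X : Over S} (a : MonAct (AMonS S M) X)
  (N : AddSubmonoid M)

/-- Pulling back a family. -/
abbrev pull {T T' : Over S} (t : T' ⟶ T) (γ : (attr a N).obj (op T)) : (attr a N).obj (op T') :=
  (attr a N).map t.op γ

theorem pull_comp {T T' T'' : Over S} (s : T'' ⟶ T') (t : T' ⟶ T) (γ : (attr a N).obj (op T)) :
    pull a N (s ≫ t) γ = pull a N s (pull a N t γ) := by
  simp only [pull, op_comp, Functor.map_comp]
  rfl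

theorem pull_id {T : Over S} (γ : (attr a N).obj (op T)) : pull a N (𝟙 T) γ = γ := by
  simp [pull]

theorem pull_inj {T T' : Over S} (q : T' ⟶ T) [DescLib.Fpqc q.left] {γ γ' : (attr a N).obj (op T)}
    (h : pull a N q γ = pull a N q γ') : γ = γ' := by
  haveI := epi_whiskerLeft (AMonS S ↥N) q
  exact Subtype.ext ((cancel_epi (AMonS S ↥N ◁ q)).mp (congrArg Subtype.val h))

theorem exists_pull_eq {T T' : Over S} (q : T' ⟶ T) [DescLib.Fpqc q.left] (γ' : (attr a N).obj (op T'))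
    (h : ∀ (R : Over S) (t₁ t₂ : R ⟶ T'), t₁ ≫ q = t₂ ≫ q → pull a N t₁ γ' = pull a N t₂ γ') :
    ∃ γ, pull a N q γ = γ' := by
  obtain ⟨γ, hγ, he⟩ := exists_descend a q γ'.1 γ'.2 fun R t₁ t₂ e => congrArg Subtype.val (h R t₁ t₂ e)
  exact ⟨⟨γ, hγ⟩, Subtype.ext he⟩

variable {F : (Over S)ᵒᵖ ⥤ Type u} (φ : attr a N ⟶ F) {W U' ZU : Over S} (es : F.RepresentableBy W)
  (p : U' ⟶ W) (jU : ZU ⟶ U') (G₀ : (attr a N).obj (op ZU))

/-- Points of the chart over the same point of the attractor. -/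
def SamePt {T : Scheme.{u}} (v w : T ⟶ ZU.left) : Prop :=
  ∃ (s : T ⟶ S) (hv : v ≫ ZU.hom = s) (hw : w ≫ ZU.hom = s),
    pull a N (Over.homMk (U := Over.mk s) v hv) G₀ = pull a N (Over.homMk (U := Over.mk s) w hw) G₀

variable {a N G₀}

theorem SamePt.refl {T : Scheme.{u}} (v : T ⟶ ZU.left) : SamePt a N G₀ v v := ⟨_, rfl, rfl, rfl⟩

theorem SamePt.symm {T : Scheme.{u}} {v w : T ⟶ ZU.left} (h : SamePt a N G₀ v w) : SamePt a N G₀ w v := by
  obtain ⟨s, hv, hw, e⟩ := h
  exact ⟨s, hw, hv, e.symm⟩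

theorem SamePt.trans {T : Scheme.{u}} {v w z : T ⟶ ZU.left} (h : SamePt a N G₀ v w) (h' : SamePt a N G₀ w z) :
    SamePt a N G₀ v z := by
  obtain ⟨s, hv, hw, e⟩ := h
  obtain ⟨s', hw', hz, e'⟩ := h'
  obtain rfl : s = s' := hw.symm.trans hw'
  exact ⟨s, hv, hz, e.trans e'⟩

theorem SamePt.precomp {T T' : Scheme.{u}} (g : T' ⟶ T) {v w : T ⟶ ZU.left} (h : SamePt a N G₀ v w) :
    SamePt a N G₀ (g ≫ v) (g ≫ w) := by
  obtain ⟨s, hv, hw, e⟩ := h
  refine ⟨g ≫ s, by rw [Category.assoc, hv], by rw [Category.assoc, hw], ?_⟩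
  let g' : Over.mk (g ≫ s) ⟶ Over.mk s := Over.homMk g rfl
  have h1 : ∀ (x : T ⟶ ZU.left) (hx : x ≫ ZU.hom = s),
      (Over.homMk (g ≫ x) (by change (g ≫ x) ≫ ZU.hom = g ≫ s; rw [Category.assoc, hx]) :
        Over.mk (g ≫ s) ⟶ ZU) = g' ≫ Over.homMk (U := Over.mk s) x hx :=
    fun x hx => Over.OverMorphism.ext rfl
  rw [h1 v hv, h1 w hw, pull_comp, pull_comp, e]

variable {φ es p jU}
variable (hG : φ.app (op ZU) G₀ = es.homEquiv (jU ≫ p))
  (hcart : ∀ (T : Over S) (γ : (attr a N).obj (op T)) (x : T ⟶ U'),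
    φ.app (op T) γ = es.homEquiv (x ≫ p) → ∃! z : T ⟶ ZU, z ≫ jU = x ∧ pull a N z G₀ = γ)

include hG in
theorem app_pull {T : Over S} (z : T ⟶ ZU) : φ.app (op T) (pull a N z G₀) = es.homEquiv (z ≫ jU ≫ p) := by
  rw [es.homEquiv_comp, ← hG]
  exact ConcreteCategory.congr_hom (φ.naturality z.op) G₀

include hG in
theorem SamePt.over_eq {T : Scheme.{u}} {v w : T ⟶ ZU.left} (h : SamePt a N G₀ v w) :
    (v ≫ jU.left) ≫ p.left = (w ≫ jU.left) ≫ p.left := by
  obtain ⟨s, hv, hw, e⟩ := h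
  have e' := congrArg (φ.app (op (Over.mk s))) e
  rw [app_pull hG, app_pull hG] at e'
  have h' := congrArg CommaMorphism.left (es.homEquiv.injective e')
  simp only [Category.assoc]
  exact h'

include hG hcart in
theorem existsUnique_samePt {T : Scheme.{u}} (v : T ⟶ ZU.left) (x : T ⟶ U'.left)
    (h : (v ≫ jU.left) ≫ p.left = x ≫ p.left) :
    ∃! w : T ⟶ ZU.left, w ≫ jU.left = x ∧ SamePt a N G₀ v w := by
  let T' : Over S := Over.mk (v ≫ ZU.hom)
  let V : T' ⟶ ZU := Over.homMk v rfl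
  let x' : T' ⟶ U' := Over.homMk x (by
    change x ≫ U'.hom = v ≫ ZU.hom
    rw [← Over.w p, ← Category.assoc, ← h, Category.assoc, Over.w p, Category.assoc, Over.w jU])
  have hx : φ.app (op T') (pull a N V G₀) = es.homEquiv (x' ≫ p) := by
    rw [app_pull hG]
    congr 1
    refine Over.OverMorphism.ext ?_
    change v ≫ jU.left ≫ p.left = x ≫ p.left
    rw [← h, Category.assoc]
  obtain ⟨z, ⟨hz1, hz2⟩, hz3⟩ := hcart T' _ x' hx
  refine ⟨z.left, ⟨congrArg CommaMorphism.left hz1, ⟨v ≫ ZU.hom, rfl, Over.w z, hz2.symm⟩⟩, ?_⟩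
  rintro w ⟨hw1, s, hs, hw, e⟩
  obtain rfl : v ≫ ZU.hom = s := hs
  have := hz3 (Over.homMk (U := T') w hw) ⟨Over.OverMorphism.ext hw1, e.symm⟩
  exact congrArg CommaMorphism.left this

/-- The gluing map. -/
def glueMap {T : Scheme.{u}} (x₀ x₁ : T ⟶ U'.left) (h : x₀ ≫ p.left = x₁ ≫ p.left)
    (v : Desc.Lifts (Over.mk jU.left) x₀) : Desc.Lifts (Over.mk jU.left) x₁ :=
  ⟨(existsUnique_samePt hG hcart v.1 x₁ (by rw [show v.1 ≫ jU.left = x₀ from v.2, h])).choose,
    (existsUnique_samePt hG hcart v.1 x₁ (by rw [show v.1 ≫ jU.left = x₀ from v.2, h])).choose_spec.1.1⟩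

theorem samePt_glueMap {T : Scheme.{u}} (x₀ x₁ : T ⟶ U'.left) (h : x₀ ≫ p.left = x₁ ≫ p.left)
    (v : Desc.Lifts (Over.mk jU.left) x₀) : SamePt a N G₀ v.1 (glueMap hG hcart x₀ x₁ h v).1 :=
  (existsUnique_samePt hG hcart v.1 x₁ (by rw [show v.1 ≫ jU.left = x₀ from v.2, h])).choose_spec.1.2

include hG hcart in
theorem eq_of_samePt {T : Scheme.{u}} {v w : T ⟶ ZU.left} (h : SamePt a N G₀ v w)
    (e : v ≫ jU.left = w ≫ jU.left) : v = w :=
  (existsUnique_samePt hG hcart v (v ≫ jU.left) rfl).unique ⟨rfl, SamePt.refl v⟩ ⟨e.symm, h⟩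

theorem glueMap_eq {T : Scheme.{u}} (x₀ x₁ : T ⟶ U'.left) (h : x₀ ≫ p.left = x₁ ≫ p.left)
    (v : Desc.Lifts (Over.mk jU.left) x₀) (w : Desc.Lifts (Over.mk jU.left) x₁)
    (e : SamePt a N G₀ v.1 w.1) : glueMap hG hcart x₀ x₁ h v = w :=
  Subtype.ext (eq_of_samePt hG hcart ((samePt_glueMap hG hcart x₀ x₁ h v).symm.trans e)
    ((glueMap hG hcart x₀ x₁ h v).2.trans w.2.symm))

/-- The descent datum of the chart. -/
def attrDD : Desc.SchDD p.left where
  obj := Over.mk jU.left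
  φ T x₀ x₁ h :=
    { toFun := glueMap hG hcart x₀ x₁ h
      invFun := glueMap hG hcart x₁ x₀ h.symm
      left_inv := fun v => glueMap_eq hG hcart _ _ _ _ _ (samePt_glueMap hG hcart x₀ x₁ h v).symm
      right_inv := fun v => glueMap_eq hG hcart _ _ _ _ _ (samePt_glueMap hG hcart x₁ x₀ h.symm v).symm }
  φ_natural T T' g x₀ x₁ h h' v v' hv := congrArg Subtype.val
    (glueMap_eq hG hcart _ _ h' v'
      ⟨g ≫ (glueMap hG hcart x₀ x₁ h v).1, by rw [Category.assoc, (glueMap hG hcart x₀ x₁ h v).2]⟩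
      (by rw [hv]; exact (samePt_glueMap hG hcart x₀ x₁ h v).precomp g))
  φ_self T x v := glueMap_eq hG hcart x x rfl v v (SamePt.refl _)
  φ_comp T x₀ x₁ x₂ h₀₁ h₁₂ v :=
    (glueMap_eq hG hcart _ _ (h₀₁.trans h₁₂) v _
      ((samePt_glueMap hG hcart x₀ x₁ h₀₁ v).trans (samePt_glueMap hG hcart x₁ x₂ h₁₂ _))).symm

theorem samePt_of_rel {T : Scheme.{u}} {v w : T ⟶ ZU.left} (r : DescLib.Rel (attrDD hG hcart) v w) :
    SamePt a N G₀ v w := by
  obtain ⟨h, e⟩ := r
  have h' := samePt_glueMap hG hcart (v ≫ jU.left) (w ≫ jU.left) h ⟨v, rfl⟩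
  change (glueMap hG hcart (v ≫ jU.left) (w ≫ jU.left) h ⟨v, rfl⟩).1 = w at e
  rwa [e] at h'

theorem rel_of_samePt {T : Scheme.{u}} {v w : T ⟶ ZU.left} (h : SamePt a N G₀ v w) :
    DescLib.Rel (attrDD hG hcart) v w :=
  ⟨h.over_eq hG, congrArg Subtype.val
    (glueMap_eq hG hcart (v ≫ jU.left) (w ≫ jU.left) (h.over_eq hG) ⟨v, rfl⟩ ⟨w, rfl⟩ h)⟩

theorem samePt_of_pull_eq {R : Over S} {t₁ t₂ : R ⟶ ZU} (h : pull a N t₁ G₀ = pull a N t₂ G₀) :
    SamePt a N G₀ t₁.left t₂.left :=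
  ⟨R.hom, Over.w t₁, Over.w t₂, h⟩

theorem pull_eq_of_samePt {R : Over S} {t₁ t₂ : R ⟶ ZU} (h : SamePt a N G₀ t₁.left t₂.left) :
    pull a N t₁ G₀ = pull a N t₂ G₀ := by
  obtain ⟨s, hv, hw, e⟩ := h
  obtain rfl : R.hom = s := (Over.w t₁).symm.trans hv
  exact e

include hG hcart in
/-- An attractor over a representable functor is representable, given an affine chart over an fpqc
cover of the representing object. -/
theorem exists_rep_affine [DescLib.Fpqc p.left] [Flat p.left] [Surjective p.left]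
    [LocallyOfFinitePresentation p.left] [IsAffineHom jU.left] :
    ∃ (ZN : Over S) (eN : (attr a N).RepresentableBy ZN) (j : ZN ⟶ W), IsAffineHom j.left ∧
      ∀ (T : Over S) (z : T ⟶ ZN), es.homEquiv (z ≫ j) = φ.app (op T) (eN.homEquiv z) := by
  haveI : IsAffineHom (attrDD hG hcart).obj.hom := inferInstanceAs (IsAffineHom jU.left)
  obtain ⟨Zl, g, q, hq, hpb⟩ : ∃ (Zl : Scheme.{u}) (g : Zl ⟶ W.left) (q : ZU.left ⟶ Zl),
      DescLib.IsQuot (attrDD hG hcart) (𝟙 ZU.left) g q ∧ IsPullback q jU.left g p.left := by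
    obtain ⟨Zl, g, q, hq⟩ := DescLib.exists_isQuot_of_effective (attrDD hG hcart)
      (DescLib.effective_of_isAffineHom _)
    refine ⟨Zl, g, q, hq, ?_⟩
    have := hq.isPullback
    rwa [Category.id_comp] at this
  let ZN : Over S := Over.mk (g ≫ W.hom)
  let q' : ZU ⟶ ZN := Over.homMk q (by
    change q ≫ g ≫ W.hom = ZU.hom
    rw [reassoc_of% hpb.w, Over.w p, Over.w jU])
  haveI : DescLib.Fpqc q'.left := hq.fpqc
  let j : ZN ⟶ W := Over.homMk g rfl
  have hqj : q' ≫ j = jU ≫ p := Over.OverMorphism.ext hpb.w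
  have hpullq : ∀ {R : Over S} (t₁ t₂ : R ⟶ ZU), pull a N t₁ G₀ = pull a N t₂ G₀ → t₁ ≫ q' = t₂ ≫ q' :=
    fun {R} t₁ t₂ h => Over.OverMorphism.ext (hq.rel t₁.left t₂.left (by
      erw [Category.comp_id, Category.comp_id]
      exact rel_of_samePt hG hcart (samePt_of_pull_eq h)))
  obtain ⟨γ₀, hγ₀⟩ := exists_pull_eq a N q' G₀ fun R t₁ t₂ h => pull_eq_of_samePt (by
    have r := hq.rel_of_eq (congrArg CommaMorphism.left h)
    erw [Category.comp_id, Category.comp_id] at r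
    exact samePt_of_rel hG hcart r)
  have hface : φ.app (op ZN) γ₀ = es.homEquiv j := by
    haveI : Epi q' := (Over.forget S).epi_of_epi_map (show Epi q'.left from inferInstance)
    have h1 : φ.app (op ZU) (pull a N q' γ₀) = F.map q'.op (φ.app (op ZN) γ₀) :=
      ConcreteCategory.congr_hom (φ.naturality q'.op) γ₀
    rw [hγ₀, hG, ← hqj, ← es.homEquiv.apply_symm_apply (φ.app (op ZN) γ₀), ← es.homEquiv_comp] at h1
    exact es.homEquiv.symm_apply_eq.mp ((cancel_epi q').mp (es.homEquiv.injective h1)).symm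
  have hbij : ∀ T : Over S, Function.Bijective fun c : T ⟶ ZN => pull a N c γ₀ := by
    intro T
    -- lifting to the chart over a cover of `T`
    have key : ∀ (w : T ⟶ W), ∃ (T' : Over S) (π : T' ⟶ T) (x : T' ⟶ U'),
        DescLib.Fpqc π.left ∧ π ≫ w = x ≫ p := by
      intro w
      refine ⟨Over.mk (pullback.fst w.left p.left ≫ T.hom), Over.homMk (pullback.fst w.left p.left) rfl,
        Over.homMk (pullback.snd w.left p.left) ?_, inferInstanceAs (DescLib.Fpqc (pullback.fst w.left p.left)),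
        Over.OverMorphism.ext pullback.condition⟩
      change pullback.snd w.left p.left ≫ U'.hom = pullback.fst w.left p.left ≫ T.hom
      rw [← Over.w p, ← Category.assoc, ← pullback.condition, Category.assoc, Over.w w]
    have hfc : ∀ {T' : Over S} (c : T' ⟶ ZN), φ.app (op T') (pull a N c γ₀) = es.homEquiv (c ≫ j) := by
      intro T' c
      rw [es.homEquiv_comp, ← hface]
      exact ConcreteCategory.congr_hom (φ.naturality c.op) γ₀
    constructor
    · intro c₁ c₂ hc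
      have hw : c₁ ≫ j = c₂ ≫ j := es.homEquiv.injective (by rw [← hfc, ← hfc]; exact congrArg _ hc)
      obtain ⟨T', π, x, hπ, hx⟩ := key (c₁ ≫ j)
      haveI := hπ
      have lift : ∀ c : T ⟶ ZN, c ≫ j = c₁ ≫ j →
          ∃ z : T' ⟶ ZU, z ≫ jU = x ∧ z ≫ q' = π ≫ c := by
        intro c hc'
        have hc'' : (π ≫ c).left ≫ g = x.left ≫ p.left := by
          have := congrArg CommaMorphism.left ((congrArg (π ≫ ·) hc').trans hx)
          simpa only [Over.comp_left, Category.assoc, j, Over.homMk_left] using this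
        refine ⟨Over.homMk (hpb.lift (π ≫ c).left x.left hc'') ?_,
          Over.OverMorphism.ext (hpb.lift_snd _ _ hc''), Over.OverMorphism.ext (hpb.lift_fst _ _ hc'')⟩
        rw [← Over.w jU, ← Category.assoc, hpb.lift_snd _ _ hc'', Over.w x]
      obtain ⟨z₁, hz1, hz1'⟩ := lift c₁ rfl
      obtain ⟨z₂, hz2, hz2'⟩ := lift c₂ hw.symm
      have hG' : ∀ (z : T' ⟶ ZU) (c : T ⟶ ZN), z ≫ q' = π ≫ c →
          pull a N z G₀ = pull a N π (pull a N c γ₀) := fun z c h => by
        rw [← hγ₀, ← pull_comp, h, pull_comp]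
      obtain rfl : z₁ = z₂ := (hcart T' (pull a N z₁ G₀) x (by rw [app_pull hG, ← hz1, Category.assoc])).unique
        ⟨hz1, rfl⟩ ⟨hz2, by rw [hG' _ _ hz1', hG' _ _ hz2']; exact congrArg _ hc.symm⟩
      haveI : Epi π := (Over.forget S).epi_of_epi_map (show Epi π.left from inferInstance)
      exact (cancel_epi π).mp (hz1'.symm.trans hz2')
    · intro γ
      obtain ⟨T', π, x, hπ, hx⟩ := key (es.homEquiv.symm (φ.app (op T) γ))
      haveI := hπ
      have hx' : φ.app (op T') (pull a N π γ) = es.homEquiv (x ≫ p) := by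
        rw [← hx, es.homEquiv_comp, es.homEquiv.apply_symm_apply]
        exact ConcreteCategory.congr_hom (φ.naturality π.op) γ
      obtain ⟨z, ⟨-, hz⟩, -⟩ := hcart T' _ x hx'
      let cl : T.left ⟶ Zl := EffectiveEpi.desc π.left (z ≫ q').left fun {R} t₁ t₂ ht => by
        let R' : Over S := Over.mk (t₁ ≫ T'.hom)
        let u₁ : R' ⟶ T' := Over.homMk t₁ rfl
        let u₂ : R' ⟶ T' := Over.homMk t₂ (by
          change t₂ ≫ T'.hom = t₁ ≫ T'.hom
          rw [← Over.w π, ← Category.assoc, ← ht, Category.assoc])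
        have hu : u₁ ≫ π = u₂ ≫ π := Over.OverMorphism.ext ht
        have := hpullq (u₁ ≫ z) (u₂ ≫ z) (by
          rw [pull_comp, pull_comp, hz, ← pull_comp, ← pull_comp, hu])
        have h' := congrArg CommaMorphism.left this
        change (t₁ ≫ z.left) ≫ q'.left = (t₂ ≫ z.left) ≫ q'.left at h'
        simpa only [Category.assoc, Over.comp_left] using h'
      have hcl : π.left ≫ cl = (z ≫ q').left := EffectiveEpi.fac _ _ _
      let c : T ⟶ ZN := Over.homMk cl (by
        rw [← cancel_epi π.left, Over.w π, ← Category.assoc, hcl, Over.w (z ≫ q')])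
      have hc : π ≫ c = z ≫ q' := Over.OverMorphism.ext hcl
      refine ⟨c, pull_inj a N π ?_⟩
      change pull a N π (pull a N c γ₀) = _
      rw [← pull_comp, hc, pull_comp, hγ₀, hz]
  refine ⟨ZN, { homEquiv := fun {T} => Equiv.ofBijective _ (hbij T)
                homEquiv_comp := fun {T T'} f c => pull_comp a N f c γ₀ }, j, ?_, fun T z => ?_⟩
  · change IsAffineHom g
    refine MorphismProperty.of_isPullback_of_descendsAlong
      (P := @IsAffineHom) (Q := @Surjective ⊓ @Flat ⊓ @LocallyOfFinitePresentation) hpb.flip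
      ⟨⟨inferInstance, inferInstance⟩, inferInstance⟩ ?_
    infer_instance
  · change es.homEquiv (z ≫ j) = φ.app (op T) (pull a N z γ₀)
    rw [es.homEquiv_comp, ← hface]
    exact (ConcreteCategory.congr_hom (φ.naturality z.op) γ₀).symm

end MagnetLib
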