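import Groth.Agent.MagnetLib.Dominant
import Groth.Agent.EqLiftLib.Fam
import Groth.Agent.EqLiftLib.Glue

/-!
# Orbits of points and their coefficients
-/

set_option autoImplicit false
set_option linter.style.haveILetI false
universe u

open CategoryTheory CategoryTheory.Limits MonoidalCategory CartesianMonoidalCategory MonObj
  AlgebraicGeometry Opposite
open Magnet
open AttrPtLib (chi chi_ext chi_map chi_comp chi_zero)
open EqLiftLib (IsEqvFam)

noncomputable section

namespace MagnetLib

set_option backward.isDefEq.respectTransparency.types true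

variable {S : Scheme.{u}} {M : Type} [AddCommMonoid M]

theorem funMap_natural {T T' : Over S} (e : T' ⟶ T) :
    (AMonS S M ◁ e).left.appTop.hom.comp (funMap M T) =
      (funMap M T').comp (MonoidAlgebra.mapRingHom (Multiplicative M) e.left.appTop.hom) := by
  refine MonoidAlgebra.ringHom_ext (fun r => ?_) fun m => ?_
  · rw [show (1 : Multiplicative M) = Multiplicative.ofAdd 0 from rfl]
    simp only [RingHom.comp_apply, MonoidAlgebra.mapRingHom_single]
    rw [funMap_single, funMap_single, chi_zero, chi_zero, _root_.mul_one, _root_.mul_one,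
      ← ConcreteCategory.comp_apply, ← Scheme.Hom.comp_appTop, ← Over.comp_left, whiskerLeft_snd]
    rfl
  · simp only [RingHom.comp_apply, MonoidAlgebra.mapRingHom_single]
    rw [show m = Multiplicative.ofAdd (Multiplicative.toAdd m) from rfl, funMap_single, funMap_single, map_one,
      _root_.one_mul, map_one, map_one, _root_.one_mul, ← chi_comp, whiskerLeft_fst]

variable {X : Over S} (a : MonAct (AMonS S M) X) (N : AddSubmonoid M)

/-- The orbit of a point. -/
def orbit {T : Over S} (x : T ⟶ X) : AMonS S M ⊗ T ⟶ X := (AMonS S M ◁ x) ≫ a.act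

/-- The orbit of a point extends to the submonoid. -/
def Ext {T : Over S} (x : T ⟶ X) : Prop :=
  ∃ ψ : AMonS S ↥N ⊗ T ⟶ X, (AMonS.map S N.subtype ▷ T) ≫ ψ = orbit a x

theorem orbit_comp {T T' : Over S} (e : T' ⟶ T) (x : T ⟶ X) :
    orbit a (e ≫ x) = (AMonS S M ◁ e) ≫ orbit a x := by
  rw [orbit, orbit, MonoidalCategory.whiskerLeft_comp, Category.assoc]

variable {a N}

theorem Ext.precomp {T T' : Over S} {x : T ⟶ X} (hx : Ext a N x) (e : T' ⟶ T) : Ext a N (e ≫ x) := by
  obtain ⟨ψ, hψ⟩ := hx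
  exact ⟨(AMonS S ↥N ◁ e) ≫ ψ, by
    rw [orbit_comp, ← Category.assoc, ← whisker_exchange, Category.assoc, hψ]⟩

variable [IsSeparated X.hom]

theorem ext_unique {T : Over S} {ψ₁ ψ₂ : AMonS S ↥N ⊗ T ⟶ X} {x : T ⟶ X}
    (h₁ : (AMonS.map S N.subtype ▷ T) ≫ ψ₁ = orbit a x) (h₂ : (AMonS.map S N.subtype ▷ T) ≫ ψ₂ = orbit a x) :
    ψ₁ = ψ₂ :=
  eq_of_map_eq N.subtype Subtype.val_injective (h₁.trans h₂.symm)

/-- Extendability is local on the source. -/
theorem ext_of_local {T : Over S} (x : T ⟶ X) {K : Type u} (Q : K → T.left.Opens)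
    (hQ : TopologicalSpace.IsOpenCover Q)
    (h : ∀ i, Ext a N ((Over.homMk (Q i).ι rfl : Over.mk ((Q i).ι ≫ T.hom) ⟶ T) ≫ x)) : Ext a N x := by
  choose ψ hψ using h
  obtain ⟨G, hG⟩ := EqLiftLib.exists_glue (B := AMonS S ↥N) Q hQ ψ fun i j R y y' hy => by
    refine eq_of_map_eq N.subtype Subtype.val_injective ?_
    rw [← whisker_exchange_assoc, hψ, ← orbit_comp, ← whisker_exchange_assoc, hψ, ← orbit_comp, ← Category.assoc,
      hy, Category.assoc]
  refine ⟨G, EqLiftLib.hom_ext_cover (snd _ _) Q hQ fun i R z y hy => ?_⟩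
  have h := congrArg (lift (z ≫ fst _ _) y ≫ ·) (hψ i)
  rw [← hG i, orbit_comp, ← whisker_exchange_assoc] at h
  simp only [lift_whiskerLeft_assoc] at h
  rwa [hy, lift_comp_fst_snd] at h

omit [IsSeparated X.hom] in
theorem orbit_apply {T R : Over S} (x : T ⟶ X) (g : R ⟶ AMonS S M) (t : R ⟶ T) :
    lift g t ≫ orbit a x = lift g (t ≫ x) ≫ a.act := by
  rw [orbit, lift_whiskerLeft_assoc]

/-- An extension of an orbit is equivariant. -/
theorem isEqvFam_of_ext {T : Over S} {x : T ⟶ X} {ψ : AMonS S ↥N ⊗ T ⟶ X}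
    (h : (AMonS.map S N.subtype ▷ T) ≫ ψ = orbit a x) : IsEqvFam a ψ := by
  rw [EqLiftLib.isEqvFam_iff]
  refine eq_of_map_eq N.subtype Subtype.val_injective ?_
  apply hom_ext_lift₂
  intro R g p
  rw [← lift_comp_fst_snd p, lift_whiskerRight_assoc, lift_whiskerRight_assoc, EqLiftLib.lift_actFst,
    EqLiftLib.lift_actSnd, EqLiftLib.lift_subAct, ← MonObj.mul_comp, ← lift_whiskerRight_assoc, h, orbit_apply,
    ← lift_whiskerRight_assoc g, h, orbit_apply, a.lift_mul_act]

omit [IsSeparated X.hom] in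
/-- An equivariant family is an extension of the orbit of its value at one. -/
theorem ext_of_isEqvFam {T : Over S} {ψ : AMonS S ↥N ⊗ T ⟶ X} (hψ : IsEqvFam a ψ) :
    (AMonS.map S N.subtype ▷ T) ≫ ψ = orbit a (lift (toUnit T ≫ η[AMonS S ↥N]) (𝟙 T) ≫ ψ) := by
  apply hom_ext_lift₂
  intro R g t
  have h := (MonAct.mem_eqvHom_iff ψ).mp hψ R g (1 : R ⟶ AMonS S ↥N) t
  rw [EqLiftLib.lift_subAct, _root_.mul_one] at h
  rw [lift_whiskerRight_assoc, h, orbit_apply, ← Category.assoc t, comp_lift, Category.comp_id, ← Hom.one_def,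
    MonObj.comp_one]

omit [IsSeparated X.hom] in
theorem eval_of_ext {T : Over S} {x : T ⟶ X} {ψ : AMonS S ↥N ⊗ T ⟶ X}
    (h : (AMonS.map S N.subtype ▷ T) ≫ ψ = orbit a x) :
    lift (toUnit T ≫ η[AMonS S ↥N]) (𝟙 T) ≫ ψ = x := by
  have h' := congrArg (lift (1 : T ⟶ AMonS S M) (𝟙 T) ≫ ·) h
  simp only [lift_whiskerRight_assoc, MonObj.one_comp, orbit_apply, Category.id_comp, a.lift_one_act] at h'
  rwa [← Hom.one_def]

section Affine

variable [IsAffineHom X.hom]

/-- Extension and coefficients: the algebra map. -/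
def coef (a : MonAct (AMonS S M) X) {W : Over S} [IsAffine W.left] (x : W ⟶ X) :
    Γ((X ⊗ W).left, ⊤) →+* MonoidAlgebra Γ(W.left, ⊤) (Multiplicative M) :=
  (RingEquiv.ofBijective (funMap M W) (bijective_funMap M W)).symm.toRingHom.comp
    (lift (orbit a x) (snd (AMonS S M) W)).left.appTop.hom

omit [IsAffineHom X.hom] [IsSeparated X.hom] in
theorem funMap_coef (a : MonAct (AMonS S M) X) {W : Over S} [IsAffine W.left] (x : W ⟶ X)
    (b : Γ((X ⊗ W).left, ⊤)) :
    funMap M W (coef a x b) = (lift (orbit a x) (snd (AMonS S M) W)).left.appTop b :=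
  RingEquiv.apply_symm_apply (RingEquiv.ofBijective (funMap M W) (bijective_funMap M W)) _

omit [IsAffineHom X.hom] [IsSeparated X.hom] in
theorem coef_natural (a : MonAct (AMonS S M) X) {W W' : Over S} [IsAffine W.left] [IsAffine W'.left]
    (e : W' ⟶ W) (x : W ⟶ X) (b : Γ((X ⊗ W).left, ⊤)) :
    coef a (e ≫ x) ((X ◁ e).left.appTop b) =
      MonoidAlgebra.mapRingHom (Multiplicative M) e.left.appTop.hom (coef a x b) := by
  apply (bijective_funMap M W').1
  have h1 := DFunLike.congr_fun (funMap_natural (M := M) e) (coef a x b)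
  simp only [RingHom.comp_apply] at h1
  rw [← h1, funMap_coef, funMap_coef, ← ConcreteCategory.comp_apply, ← ConcreteCategory.comp_apply,
    ← Scheme.Hom.comp_appTop, ← Scheme.Hom.comp_appTop, ← Over.comp_left, ← Over.comp_left]
  congr 4
  rw [lift_whiskerLeft, comp_lift, orbit_comp, whiskerLeft_snd]

omit [IsAffineHom X.hom] in
theorem mem_range_mapDomain_iff {R : Type u} [CommRing R] (x : MonoidAlgebra R (Multiplicative M)) :
    x ∈ Set.range (MonoidAlgebra.mapDomainRingHom R (AddMonoidHom.toMultiplicative N.subtype)) ↔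
      ∀ m : Multiplicative M, Multiplicative.toAdd m ∉ N → x.coeff m = 0 := by
  constructor
  · rintro ⟨y, rfl⟩ m hm
    change (Finsupp.mapDomain _ y.coeff) m = 0
    refine Finsupp.mapDomain_of_notMem_range _ _ ?_
    rintro ⟨n, rfl⟩
    exact hm (Multiplicative.toAdd n).2
  · intro h
    have hinj : Function.Injective (AddMonoidHom.toMultiplicative N.subtype) := fun p q hpq => Subtype.ext hpq
    refine ⟨⟨x.coeff.comapDomain _ hinj.injOn⟩, MonoidAlgebra.coeff_injective ?_⟩
    change Finsupp.mapDomain _ _ = x.coeff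
    refine Finsupp.mapDomain_comapDomain _ hinj _ fun m hm => ?_
    by_contra hc
    exact Finsupp.mem_support_iff.mp hm (h m fun hmN => hc ⟨Multiplicative.ofAdd ⟨_, hmN⟩, rfl⟩)

set_option backward.isDefEq.respectTransparency.types false in
omit [IsSeparated X.hom] in
/-- An orbit extends iff the coefficients outside the submonoid vanish. -/
theorem ext_iff {W : Over S} [IsAffine W.left] (x : W ⟶ X) :
    Ext a N x ↔ ∃ g : Γ((X ⊗ W).left, ⊤) →+* MonoidAlgebra Γ(W.left, ⊤) (Multiplicative ↥N),
      (MonoidAlgebra.mapDomainRingHom Γ(W.left, ⊤) (AddMonoidHom.toMultiplicative N.subtype)).comp g = coef a x := by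
  haveI := isAffine_amonS_tensor (S := S) ↥N W
  haveI := isAffine_amonS_tensor (S := S) M W
  haveI : IsAffineHom (snd X W).left :=
    MorphismProperty.pullback_snd (P := @IsAffineHom) X.hom W.hom inferInstance
  haveI : IsAffine (X ⊗ W).left := isAffine_of_isAffineHom (snd X W).left
  let eN := RingEquiv.ofBijective (funMap ↥N W) (bijective_funMap ↥N W)
  constructor
  · rintro ⟨ψ, hψ⟩
    refine ⟨eN.symm.toRingHom.comp (lift ψ (snd (AMonS S ↥N) W)).left.appTop.hom, RingHom.ext fun b => ?_⟩
    apply (bijective_funMap M W).1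
    have h1 := DFunLike.congr_fun (funMap_map (S := S) N.subtype W) (eN.symm ((lift ψ (snd (AMonS S ↥N) W)).left.appTop b))
    simp only [RingHom.comp_apply] at h1 ⊢
    rw [funMap_coef]
    refine h1.symm.trans ?_
    rw [show funMap ↥N W (eN.symm _) = _ from eN.apply_symm_apply _, ← ConcreteCategory.comp_apply,
      ← Scheme.Hom.comp_appTop, ← Over.comp_left, comp_lift, hψ, whiskerRight_snd]
  · rintro ⟨g, hg⟩
    let l : (AMonS S ↥N ⊗ W).left ⟶ (X ⊗ W).left :=
      (AMonS S ↥N ⊗ W).left.toSpecΓ ≫ Spec.map (CommRingCat.ofHom ((funMap ↥N W).comp g)) ≫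
        (X ⊗ W).left.isoSpec.inv
    have hl : ∀ b, l.appTop b = funMap ↥N W (g b) := fun b => by
      have h1 : (X ⊗ W).left.isoSpec.inv.appTop = (Scheme.ΓSpecIso _).inv := by
        simp [Scheme.isoSpec, Scheme.toSpecΓ_appTop]
      simp only [l, Scheme.Hom.comp_appTop, h1]
      rw [← Scheme.ΓSpecIso_inv_naturality, Category.assoc, Scheme.toSpecΓ_appTop, Iso.inv_hom_id,
        Category.comp_id]
      rfl
    have hlm : (AMonS.map S N.subtype ▷ W).left ≫ l = (lift (orbit a x) (snd (AMonS S M) W)).left := by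
      refine ext_of_isAffine (CommRingCat.hom_ext (RingHom.ext fun b => ?_))
      change ((AMonS.map S N.subtype ▷ W).left ≫ l).appTop b = _
      rw [Scheme.Hom.comp_appTop, ConcreteCategory.comp_apply, hl]
      have h1 := DFunLike.congr_fun (funMap_map (S := S) N.subtype W) (g b)
      simp only [RingHom.comp_apply] at h1
      refine h1.trans ?_
      rw [show MonoidAlgebra.mapDomainRingHom _ _ (g b) = coef a x b from DFunLike.congr_fun hg b, funMap_coef]
    have hls : l ≫ (snd X W).left = (snd (AMonS S ↥N) W).left := by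
      refine ext_of_isAffine (CommRingCat.hom_ext (RingHom.ext fun r => ?_))
      apply injective_appTop_map (S := S) N.subtype Subtype.val_injective W
      have h := congrArg (fun k => (k ≫ (snd X W).left).appTop r) hlm
      simp only [Category.assoc, ← Over.comp_left, lift_snd] at h
      rw [← whiskerRight_snd (AMonS.map S N.subtype) W, Over.comp_left, Scheme.Hom.comp_appTop,
        Scheme.Hom.comp_appTop] at h
      exact h
    let L : AMonS S ↥N ⊗ W ⟶ X ⊗ W := Over.homMk l (by
      rw [← Over.w (snd X W), ← Category.assoc, hls]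
      exact Over.w (snd (AMonS S ↥N) W))
    refine ⟨L ≫ fst X W, ?_⟩
    have hL : (AMonS.map S N.subtype ▷ W) ≫ L = lift (orbit a x) (snd (AMonS S M) W) :=
      Over.OverMorphism.ext hlm
    rw [← Category.assoc, hL, lift_fst]

end Affine

end MagnetLib
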