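import Groth.Agent.MagnetLib.AffineRep

/-!
# Change of monoid for attractors of schemes affine over the base
-/

set_option autoImplicit false
set_option linter.style.haveILetI false
universe u

open CategoryTheory CategoryTheory.Limits MonoidalCategory CartesianMonoidalCategory MonObj
  AlgebraicGeometry Opposite
open Magnet
open AttrPtLib (chi chi_ext chi_map chi_comp chi_zero chi_mul)

noncomputable section

namespace MagnetLib

set_option backward.isDefEq.respectTransparency.types true

variable {S : Scheme.{u}} {M : Type} [AddCommMonoid M] {X : Over S} (a : MonAct (AMonS S M) X)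

/-- The action on the product with the parameters. -/
def coMap (W : Over S) : AMonS S M ⊗ (X ⊗ W) ⟶ X ⊗ W :=
  lift (orbit a (fst X W)) (snd _ _ ≫ snd X W)

/-- The multiplication of the parameters. -/
def mulMap (P : Over S) : AMonS S M ⊗ (AMonS S M ⊗ P) ⟶ AMonS S M ⊗ P :=
  lift (fst _ _ * (snd _ _ ≫ fst _ _)) (snd _ _ ≫ snd _ _)

theorem coMap_assoc (W : Over S) :
    mulMap (X ⊗ W) ≫ coMap a W = (AMonS S M ◁ coMap a W) ≫ coMap a W := by
  apply hom_ext_lift₂
  intro R g q
  rw [← lift_comp_fst_snd q]
  simp only [mulMap, coMap, ← Category.assoc, comp_lift, lift_whiskerLeft, MonObj.comp_mul, lift_fst, lift_snd]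
  simp only [orbit_apply, Category.assoc, comp_lift, lift_snd_assoc]
  rw [a.lift_mul_act]
  congr 2 <;> simp [orbit_apply]

/-- Comultiplication on monoid algebras over the functions. -/
def diagHom (P : Over S) :
    MonoidAlgebra Γ(P.left, ⊤) (Multiplicative M) →+*
      MonoidAlgebra Γ((AMonS S M ⊗ P).left, ⊤) (Multiplicative M) :=
  MonoidAlgebra.liftNCRingHom (MonoidAlgebra.singleOneRingHom.comp (snd (AMonS S M) P).left.appTop.hom)
    { toFun := fun m => MonoidAlgebra.single m (chi (fst (AMonS S M) P) (Multiplicative.toAdd m))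
      map_one' := by rw [toAdd_one, chi_zero]; rfl
      map_mul' := fun x y => by rw [MonoidAlgebra.single_mul_single, toAdd_mul, AttrPtLib.chi_add] }
    fun _ _ => Commute.all _ _

theorem diagHom_single (P : Over S) (m : Multiplicative M) (r : Γ(P.left, ⊤)) :
    diagHom P (MonoidAlgebra.single m r) = MonoidAlgebra.single m (funMap M P (MonoidAlgebra.single m r)) := by
  rw [show m = Multiplicative.ofAdd (Multiplicative.toAdd m) from rfl, funMap_single]
  simp [diagHom, MonoidAlgebra.liftNCRingHom, MonoidAlgebra.singleOneRingHom, MonoidAlgebra.single_mul_single]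

theorem coeff_diagHom (P : Over S) (x : MonoidAlgebra Γ(P.left, ⊤) (Multiplicative M)) (m : Multiplicative M) :
    (diagHom P x).coeff m = funMap M P (MonoidAlgebra.single m (x.coeff m)) := by
  classical
  induction x using MonoidAlgebra.induction_linear with
  | zero => simp
  | add x y hx hy => simp only [map_add, MonoidAlgebra.coeff_add, Finsupp.add_apply, hx, hy,
      MonoidAlgebra.single_add]
  | single n r =>
    rw [diagHom_single]
    simp only [MonoidAlgebra.coeff_single, Finsupp.single_apply]
    split_ifs with h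
    · rw [h]
    · rw [MonoidAlgebra.single_zero, map_zero]

theorem mulMap_funMap (P : Over S) :
    (mulMap (M := M) P).left.appTop.hom.comp (funMap M P) = (funMap M (AMonS S M ⊗ P)).comp (diagHom P) := by
  refine MonoidAlgebra.ringHom_ext (fun r => ?_) fun m => ?_
  · simp only [RingHom.comp_apply]
    rw [diagHom_single, show (1 : Multiplicative M) = Multiplicative.ofAdd 0 from rfl, funMap_single, funMap_single,
      chi_zero, chi_zero, _root_.mul_one, _root_.mul_one, ← ConcreteCategory.comp_apply, ← Scheme.Hom.comp_appTop,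
      ← Over.comp_left, mulMap, lift_snd, Over.comp_left, Scheme.Hom.comp_appTop, ConcreteCategory.comp_apply]
  · simp only [RingHom.comp_apply]
    rw [diagHom_single, show m = Multiplicative.ofAdd (Multiplicative.toAdd m) from rfl, funMap_single, funMap_single,
      map_one, _root_.one_mul, ← chi_comp, ← chi_comp]
    change chi (mulMap P ≫ fst (AMonS S M) P) _ = _
    rw [mulMap, lift_fst,
      chi_mul]
    exact mul_comm _ _

variable [IsSeparated X.hom]

set_option backward.isDefEq.respectTransparency.types false in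
omit [IsSeparated X.hom] in
theorem isAffine_tensor_left [IsAffineHom X.hom] (W : Over S) [IsAffine W.left] : IsAffine (X ⊗ W).left := by
  haveI : IsAffineHom (snd X W).left :=
    MorphismProperty.pullback_snd (P := @IsAffineHom) X.hom W.hom inferInstance
  exact isAffine_of_isAffineHom (snd X W).left

omit [IsSeparated X.hom] in
/-- Homogeneous components give monomials. -/
theorem exists_monomial [IsAffineHom X.hom] {W : Over S} [IsAffine W.left] (x : W ⟶ X) (b : Γ((X ⊗ W).left, ⊤))
    (m : Multiplicative M) :
    ∃ b', coef a x b' = MonoidAlgebra.single m ((coef a x b).coeff m) := by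
  haveI := isAffine_tensor_left (X := X) W
  haveI := isAffine_amonS_tensor M (X ⊗ W)
  let P : Over S := X ⊗ W
  let c := (coMap a W).left.appTop.hom
  obtain ⟨z, hz⟩ := (bijective_funMap M P).2 (c b)
  let e : W ⟶ P := lift x (𝟙 W)
  have hce : ∀ r : Γ(P.left, ⊤), (lift (orbit a x) (snd (AMonS S M) W)).left.appTop r =
      (AMonS S M ◁ e).left.appTop (c r) := fun r => by
    rw [← ConcreteCategory.comp_apply, ← Scheme.Hom.comp_appTop, ← Over.comp_left]
    congr 4
    rw [coMap, comp_lift, ← orbit_comp, whiskerLeft_snd_assoc, lift_fst, lift_snd, Category.comp_id]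
  have hcoef : ∀ r w, funMap M P w = c r →
      coef a x r = MonoidAlgebra.mapRingHom (Multiplicative M) e.left.appTop.hom w := fun r w h => by
    apply (bijective_funMap M W).1
    rw [funMap_coef, hce, ← h]
    exact DFunLike.congr_fun (funMap_natural (M := M) e) w
  have hcomp : (AMonS S M ◁ coMap a W).left.appTop (c b) = (mulMap (M := M) P).left.appTop (c b) := by
    have h := congrArg (fun k => k.left.appTop b) (coMap_assoc a W)
    simp only [Over.comp_left, Scheme.Hom.comp_appTop, ConcreteCategory.comp_apply] at h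
    exact h.symm
  have h1 := DFunLike.congr_fun (funMap_natural (M := M) (coMap a W)) z
  have h2 := DFunLike.congr_fun (mulMap_funMap (M := M) P) z
  simp only [RingHom.comp_apply] at h1 h2
  rw [hz] at h1 h2
  have h3 := (bijective_funMap M (AMonS S M ⊗ P)).1 (h1.symm.trans (hcomp.trans h2))
  have h4 := congrArg (fun w => w.coeff m) h3
  simp only [coeff_diagHom] at h4
  refine ⟨z.coeff m, ?_⟩
  rw [hcoef (z.coeff m) _ ((Finsupp.mapRange_apply (hf := map_zero c)).symm.trans h4).symm,
    MonoidAlgebra.mapRingHom_single, hcoef b z hz]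
  exact congrArg _ (Finsupp.mapRange_apply (hf := map_zero e.left.appTop.hom)).symm

section Restrict

variable {Z : Type} [AddCommMonoid Z] (f : M →+ Z)

omit [IsSeparated X.hom] in
theorem orbit_restrict {T : Over S} (x : T ⟶ X) :
    orbit (a.restrict (AMonS.map S f)) x = (AMonS.map S f ▷ T) ≫ orbit a x := by
  apply hom_ext_lift₂
  intro R g t
  rw [orbit_apply, MonAct.lift_restrict_act, lift_whiskerRight_assoc, orbit_apply]

omit [IsSeparated X.hom] in
theorem coef_restrict [IsAffineHom X.hom] {W : Over S} [IsAffine W.left] (x : W ⟶ X)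
    (b : Γ((X ⊗ W).left, ⊤)) :
    coef (a.restrict (AMonS.map S f)) x b =
      MonoidAlgebra.mapDomainRingHom Γ(W.left, ⊤) (AddMonoidHom.toMultiplicative f) (coef a x b) := by
  apply (bijective_funMap Z W).1
  have h := DFunLike.congr_fun (funMap_map (S := S) f W) (coef a x b)
  simp only [RingHom.comp_apply] at h
  rw [← h, funMap_coef, funMap_coef, ← ConcreteCategory.comp_apply, ← Scheme.Hom.comp_appTop, ← Over.comp_left]
  congr 4
  rw [orbit_restrict, comp_lift, whiskerRight_snd]

/-- Extension to the preimage from extension after restriction. -/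
theorem ext_of_ext_restrict [IsAffineHom X.hom] (Y : AddSubmonoid Z) {T : Over S} (x : T ⟶ X)
    (h : Ext (a.restrict (AMonS.map S f)) Y x) : Ext a (Y.comap f) x := by
  refine ext_of_local x (fun V : T.left.affineOpens => (V : T.left.Opens))
    (iSup_affineOpens_eq_top T.left) fun V => ?_
  let W : Over S := Over.mk ((V : T.left.Opens).ι ≫ T.hom)
  haveI : IsAffine W.left := V.2
  let y : W ⟶ X := (Over.homMk (V : T.left.Opens).ι rfl : W ⟶ T) ≫ x
  have hy : Ext (a.restrict (AMonS.map S f)) Y (𝟙 W ≫ y) := by
    rw [Category.id_comp]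
    exact h.precomp _
  have hv := (ext_comp_iff (a.restrict (AMonS.map S f)) Y (𝟙 W) y).mp hy
  change Ext a (Y.comap f) y
  rw [← Category.id_comp y]
  refine (ext_comp_iff a _ (𝟙 W) y).mpr fun b m hm => ?_
  obtain ⟨b', hb'⟩ := exists_monomial a y b m
  have h' := hv b' (AddMonoidHom.toMultiplicative f m) hm
  rw [coef_restrict, hb', MonoidAlgebra.mapDomainRingHom_apply, MonoidAlgebra.mapDomain_single,
    MonoidAlgebra.coeff_single, Finsupp.single_eq_same] at h'
  exact h'

theorem bijective_attrComap [IsAffineHom X.hom] (Y : AddSubmonoid Z) (T : (Over S)ᵒᵖ) :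
    Function.Bijective ((attrComap a f Y).app T) := by
  let g := (f.comp (Y.comap f).subtype).codRestrict Y (fun x => x.2)
  have hev : ∀ φ : AMonS S ↥(Y.comap f) ⊗ unop T ⟶ X,
      lift (toUnit (unop T) ≫ η[AMonS S ↥Y]) (𝟙 _) ≫ (AMonS.map S g ▷ unop T) ≫ φ =
        lift (toUnit (unop T) ≫ η[AMonS S ↥(Y.comap f)]) (𝟙 _) ≫ φ := fun φ => by
    rw [lift_whiskerRight_assoc, ← Hom.one_def, ← Hom.one_def, MonObj.one_comp]
  constructor
  · intro φ φ' h
    have h' : (AMonS.map S g ▷ unop T) ≫ φ.1 = (AMonS.map S g ▷ unop T) ≫ φ'.1 := congrArg Subtype.val h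
    refine Subtype.ext (ext_unique (ext_of_isEqvFam φ.2) ?_)
    rw [← hev, h', hev]
    exact ext_of_isEqvFam φ'.2
  · intro ψ
    have hψ := ext_of_isEqvFam ψ.2
    obtain ⟨φ, hφ⟩ := ext_of_ext_restrict a f Y _ ⟨ψ.1, hψ⟩
    refine ⟨⟨φ, isEqvFam_of_ext hφ⟩, Subtype.ext (ext_unique ?_ hψ)⟩
    rw [orbit_restrict, ← hφ]
    change (AMonS.map S Y.subtype ▷ _) ≫ (AMonS.map S g ▷ _) ≫ φ = _
    simp only [← comp_whiskerRight_assoc, ← AMonS.map_comp]
    rfl

end Restrict

end MagnetLib
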