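import Groth.Agent.AttrPtLib.Points
import Groth.Agent.EqLiftLib.Fam
import Groth.Agent.DescLib.Fpqc
import Groth.Agent.MultHomLib.Free
import Groth.Prelude.Def_Magnet3

/-!
# The attractor of a subgroup is the fixed locus
-/

set_option autoImplicit false
set_option linter.style.haveILetI false
universe u

open CategoryTheory CategoryTheory.Limits MonoidalCategory CartesianMonoidalCategory MonObj
  AlgebraicGeometry Opposite
open Magnet
open AttrPtLib (chi chi_ext chi_map chi_mul chi_zero chi_add exists_chi)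
open EqLiftLib (IsEqvFam)

noncomputable section

namespace MagnetLib

variable {S : Scheme.{u}}

theorem property_map {M N : Type} [AddCommMonoid M] [AddCommMonoid N] (P : MorphismProperty Scheme.{u})
    [P.IsStableUnderBaseChange] (f : N →+ M) (h : P (AMon.map (ULift.{u} ℤ) f).left) (T : Over S) :
    P (AMonS.map S f ▷ T).left := by
  let q := Limits.IsTerminal.from specULiftZIsTerminal S
  let A₀ := AMon (ULift.{u} ℤ) M
  let B₀ := AMon (ULift.{u} ℤ) N
  let g := AMon.map (ULift.{u} ℤ) f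
  have h1 : IsPullback (pullback.fst A₀.hom q) (AMonS.map S f).left g.left (pullback.fst B₀.hom q) := by
    refine IsPullback.of_bot ?_ ?_ (IsPullback.of_hasPullback B₀.hom q)
    · rw [show g.left ≫ B₀.hom = A₀.hom from Over.w g]
      rw [show (AMonS.map S f).left ≫ pullback.snd B₀.hom q = pullback.snd A₀.hom q from Over.w (AMonS.map S f)]
      exact IsPullback.of_hasPullback A₀.hom q
    · exact (pullback.lift_fst _ _ _).symm
  have h2 : P (AMonS.map S f).left := MorphismProperty.of_isPullback h1 h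
  have h3 : IsPullback (fst (AMonS S M) T).left (AMonS.map S f ▷ T).left (AMonS.map S f).left
      (fst (AMonS S N) T).left := by
    refine IsPullback.of_bot (v₂₁ := (snd (AMonS S N) T).left) (v₂₂ := (AMonS S N).hom) (h₃₁ := T.hom) ?_ ?_
      (IsPullback.of_hasPullback (AMonS S N).hom T.hom)
    · rw [Over.w (AMonS.map S f), ← Over.comp_left, whiskerRight_snd]
      exact IsPullback.of_hasPullback (AMonS S M).hom T.hom
    · rw [← Over.comp_left, ← Over.comp_left, whiskerRight_fst]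
  exact MorphismProperty.of_isPullback h3 h2

variable {M : Type} [AddCommGroup M] (Q : AddSubmonoid M) (Z : AddSubgroup M) (hQ : ∀ m, m ∈ Q ↔ m ∈ Z)

include hQ in
theorem fpqc_map (T : Over S) : DescLib.Fpqc (AMonS.map S Q.subtype ▷ T).left := by
  let f : ↥Q →+ M := Q.subtype
  let φ : ↥Z →+ M := Z.subtype
  let e : ↥Q ≃+ ↥Z :=
    { toFun := fun x => ⟨x.1, (hQ _).mp x.2⟩
      invFun := fun x => ⟨x.1, (hQ _).mpr x.2⟩
      left_inv := fun _ => rfl
      right_inv := fun _ => rfl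
      map_add' := fun _ _ => rfl }
  let g := CommRingCat.ofHom
    (MonoidAlgebra.mapDomainBialgHom (ULift.{u} ℤ) (AddMonoidHom.toMultiplicative f)).toAlgHom.toRingHom
  have hff : g.hom.FaithfullyFlat := by
    have h := Groth.Agent.MultHom.faithfullyFlat_mapDomain (R := ULift.{u} ℤ)
      (AddMonoidHom.toMultiplicative φ) (fun p q hpq => Subtype.ext hpq)
    have he : Function.Bijective (MonoidAlgebra.mapDomainRingHom (ULift.{u} ℤ)
        (AddMonoidHom.toMultiplicative e.toAddMonoidHom)) :=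
      (MonoidAlgebra.mapDomainRingEquiv (ULift.{u} ℤ) (AddEquiv.toMultiplicative e)).bijective
    have heq : g.hom = (MonoidAlgebra.mapDomainAlgHom (ULift.{u} ℤ) (ULift.{u} ℤ)
        (AddMonoidHom.toMultiplicative φ)).toRingHom.comp
          (MonoidAlgebra.mapDomainRingHom (ULift.{u} ℤ) (AddMonoidHom.toMultiplicative e.toAddMonoidHom)) :=
      MonoidAlgebra.ringHom_ext (fun r => by simp [g]) fun m => by simp [g, f, φ, e]
    rw [heq]
    exact RingHom.FaithfullyFlat.stableUnderComposition _ _ (RingHom.FaithfullyFlat.of_bijective he) h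
  rw [RingHom.FaithfullyFlat.iff_flat_and_comap_surjective] at hff
  haveI : Flat (AMonS.map S f ▷ T).left := by
    refine property_map @Flat f ?_ T
    rw [AMon.map_left]
    exact (HasRingHomProperty.Spec_iff (P := @Flat)).mpr hff.1
  haveI : Surjective (AMonS.map S f ▷ T).left := by
    refine property_map @Surjective f ?_ T
    rw [AMon.map_left]
    exact ⟨hff.2⟩
  haveI : QuasiCompact (AMonS.map S f ▷ T).left := by
    refine property_map @QuasiCompact f ?_ T
    rw [AMon.map_left]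
    haveI : IsAffineHom (Spec.map g) := isAffineHom_of_isAffine _
    exact (inferInstance : QuasiCompact (Spec.map g))
  infer_instance

variable {X : Over S} (a : MonAct (AMonS S M) X)

/-- The action of the kernel. -/
abbrev kerAct : MonAct (AMonS S (M ⧸ Z)) X := a.restrict (AMonS.map S (QuotientAddGroup.mk' Z))

include hQ in
theorem eval_fixed {T : Over S} {ψ : AMonS S ↥Q ⊗ T ⟶ X} (hψ : IsEqvFam a ψ) (T' : Over S) (t : T' ⟶ T)
    (g : T' ⟶ AMonS S (M ⧸ Z)) :
    lift g (t ≫ lift (toUnit T ≫ η[AMonS S ↥Q]) (𝟙 T) ≫ ψ) ≫ (kerAct Z a).act =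
      t ≫ lift (toUnit T ≫ η[AMonS S ↥Q]) (𝟙 T) ≫ ψ := by
  rw [← Category.assoc t, comp_lift, Category.comp_id, ← Hom.one_def, MonObj.comp_one, MonAct.lift_restrict_act,
    ← (MonAct.mem_eqvHom_iff ψ).mp hψ, EqLiftLib.lift_subAct, _root_.mul_one,
    show (g ≫ AMonS.map S (QuotientAddGroup.mk' Z)) ≫ AMonS.map S Q.subtype = (1 : T' ⟶ AMonS S ↥Q) from
      chi_ext fun m => by
        rw [chi_map, chi_map, show QuotientAddGroup.mk' Z (Q.subtype m) = 0 from
          (QuotientAddGroup.eq_zero_iff _).mpr ((hQ _).mp m.2), chi_zero]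
        exact (chi_one' m).symm]
where
  chi_one' {T : Over S} {M' : Type} [AddCommMonoid M'] (m : M') : chi (1 : T ⟶ AMonS S M') m = 1 := by
    obtain ⟨g, hg⟩ := exists_chi (S := S) (M := M') T 1
    have h := chi_mul g (1 : T ⟶ AMonS S M') m
    rw [_root_.mul_one, hg, MonoidHom.one_apply, _root_.one_mul] at h
    exact h.symm

theorem exists_quot_pt {T : Over S} (g₁ g₂ : T ⟶ AMonS S M) (h : ∀ m, m ∈ Z → chi g₁ m = chi g₂ m) :
    ∃ k : T ⟶ AMonS S (M ⧸ Z), g₂ = g₁ * (k ≫ AMonS.map S (QuotientAddGroup.mk' Z)) := by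
  let φ : M →+ Additive Γ(T.left, ⊤) :=
    { toFun := fun m => Additive.ofMul (chi g₂ m * chi g₁ (-m))
      map_zero' := by simp [chi_zero]
      map_add' := fun x y => congrArg Additive.ofMul (show _ = (chi g₂ x * chi g₁ (-x)) * (chi g₂ y * chi g₁ (-y)) by
        rw [chi_add, neg_add, chi_add, _root_.mul_mul_mul_comm]) }
  have hφ : Z ≤ φ.ker := fun m hm => congrArg Additive.ofMul (show chi g₂ m * chi g₁ (-m) = 1 by
    rw [← h m hm, ← chi_add, add_neg_cancel, chi_zero])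
  let ψ := QuotientAddGroup.lift Z φ hφ
  obtain ⟨k, hk⟩ := exists_chi (S := S) (M := M ⧸ Z) T (AddMonoidHom.toMultiplicativeLeft ψ)
  refine ⟨k, chi_ext fun m => ?_⟩
  rw [chi_mul, chi_map, hk]
  change _ = chi g₁ m * (chi g₂ m * chi g₁ (-m))
  rw [mul_left_comm, ← chi_add g₁, add_neg_cancel, chi_zero, _root_.mul_one]

include hQ in
set_option backward.isDefEq.respectTransparency.types true in
theorem exists_family {T : Over S} (x : T ⟶ X)
    (hx : ∀ (T' : Over S) (t : T' ⟶ T) (g : T' ⟶ AMonS S (M ⧸ Z)), lift g (t ≫ x) ≫ (kerAct Z a).act = t ≫ x) :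
    ∃ ψ : AMonS S ↥Q ⊗ T ⟶ X, IsEqvFam a ψ ∧ lift (toUnit T ≫ η[AMonS S ↥Q]) (𝟙 T) ≫ ψ = x := by
  let π := AMonS.map S Q.subtype ▷ T
  haveI := fpqc_map (S := S) Q Z hQ T
  let o : AMonS S M ⊗ T ⟶ X := (AMonS S M ◁ x) ≫ a.act
  have ho : ∀ {R : Over S} (g : R ⟶ AMonS S M) (t : R ⟶ T), lift g t ≫ o = lift g (t ≫ x) ≫ a.act :=
    fun g t => lift_whiskerLeft_assoc _ _ _ _
  have hkey : ∀ {R : Scheme.{u}} (z₁ z₂ : R ⟶ (AMonS S M ⊗ T).left),
      z₁ ≫ π.left = z₂ ≫ π.left → z₁ ≫ o.left = z₂ ≫ o.left := by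
    intro R z₁ z₂ hz
    let R' : Over S := Over.mk (z₁ ≫ (AMonS S M ⊗ T).hom)
    let w₁ : R' ⟶ AMonS S M ⊗ T := Over.homMk z₁ rfl
    let w₂ : R' ⟶ AMonS S M ⊗ T := Over.homMk z₂ (by
      change z₂ ≫ (AMonS S M ⊗ T).hom = z₁ ≫ (AMonS S M ⊗ T).hom
      rw [← Over.w π, ← Category.assoc, ← hz, Category.assoc])
    have hw : w₁ ≫ π = w₂ ≫ π := Over.OverMorphism.ext hz
    have hfst := congrArg (· ≫ fst _ _) hw
    have hsnd := congrArg (· ≫ snd _ _) hw
    simp only [π, Category.assoc, whiskerRight_fst, whiskerRight_snd] at hfst hsnd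
    obtain ⟨k, hk⟩ := exists_quot_pt Z (w₁ ≫ fst _ _) (w₂ ≫ fst _ _) fun m hm => by
      have h := congrArg (fun w => chi w (⟨m, (hQ m).mpr hm⟩ : ↥Q)) hfst
      simp only [← Category.assoc, chi_map] at h
      exact h
    refine congrArg CommaMorphism.left (show w₁ ≫ o = w₂ ≫ o from ?_)
    rw [← lift_comp_fst_snd w₁, ← lift_comp_fst_snd w₂, ho, ho, hk, a.lift_mul_act]
    have hfix := hx R' (w₂ ≫ snd _ _) k
    rw [MonAct.lift_restrict_act] at hfix
    rw [hfix, hsnd]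
  let ψl : (AMonS S ↥Q ⊗ T).left ⟶ X.left := EffectiveEpi.desc π.left o.left fun {R} z₁ z₂ hz => hkey z₁ z₂ hz
  have hψl : π.left ≫ ψl = o.left := EffectiveEpi.fac _ _ _
  let ψ : AMonS S ↥Q ⊗ T ⟶ X := Over.homMk ψl (by
    rw [← cancel_epi π.left, ← Category.assoc, hψl, Over.w o, Over.w π])
  have hψ : π ≫ ψ = o := Over.OverMorphism.ext hψl
  refine ⟨ψ, ?_, ?_⟩
  · rw [EqLiftLib.isEqvFam_iff]
    haveI := fpqc_map (S := S) Q Z hQ (AMonS S M ⊗ T)
    haveI : Epi (AMonS.map S Q.subtype ▷ (AMonS S M ⊗ T)) := (Over.forget S).epi_of_epi_map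
      (show Epi (AMonS.map S Q.subtype ▷ (AMonS S M ⊗ T)).left from inferInstance)
    rw [← cancel_epi (AMonS.map S Q.subtype ▷ (AMonS S M ⊗ T))]
    apply hom_ext_lift₂
    intro R g p
    rw [← lift_comp_fst_snd p, lift_whiskerRight_assoc, lift_whiskerRight_assoc, EqLiftLib.lift_actFst,
      EqLiftLib.lift_actSnd, EqLiftLib.lift_subAct, ← MonObj.mul_comp, ← lift_whiskerRight_assoc, hψ, ho,
      ← lift_whiskerRight_assoc g, hψ, ho, a.lift_mul_act]
  · have h := congrArg (lift (1 : T ⟶ AMonS S M) (𝟙 T) ≫ ·) hψ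
    simp only [π, lift_whiskerRight_assoc, MonObj.one_comp, ho, Category.id_comp, a.lift_one_act] at h
    rwa [← Hom.one_def]

include hQ in
theorem family_unique {T : Over S} {ψ₁ ψ₂ : AMonS S ↥Q ⊗ T ⟶ X} (h₁ : IsEqvFam a ψ₁) (h₂ : IsEqvFam a ψ₂)
    (h : lift (toUnit T ≫ η[AMonS S ↥Q]) (𝟙 T) ≫ ψ₁ = lift (toUnit T ≫ η[AMonS S ↥Q]) (𝟙 T) ≫ ψ₂) :
    ψ₁ = ψ₂ := by
  haveI := fpqc_map (S := S) Q Z hQ T
  haveI : Epi (AMonS.map S Q.subtype ▷ T) := (Over.forget S).epi_of_epi_map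
    (show Epi (AMonS.map S Q.subtype ▷ T).left from inferInstance)
  rw [← cancel_epi (AMonS.map S Q.subtype ▷ T)]
  apply hom_ext_lift₂
  intro R g t
  have key : ∀ {χ : AMonS S ↥Q ⊗ T ⟶ X}, IsEqvFam a χ → lift g t ≫ (AMonS.map S Q.subtype ▷ T) ≫ χ =
      lift g (t ≫ lift (toUnit T ≫ η[AMonS S ↥Q]) (𝟙 T) ≫ χ) ≫ a.act := fun {χ} hχ => by
    rw [lift_whiskerRight_assoc, ← Category.assoc t, comp_lift, Category.comp_id, ← Hom.one_def, MonObj.comp_one,
      ← (MonAct.mem_eqvHom_iff χ).mp hχ, EqLiftLib.lift_subAct, _root_.mul_one]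
  rw [key h₁, key h₂, h]

include hQ in
/-- The comparison with fixed points. -/
theorem exists_iso : ∃ e : Magnet.attr a Q ≅ MonAct.fixedPsh (kerAct Z a),
    e.hom ≫ MonAct.fixedPshι _ = Magnet.attrToX a Q := by
  let θ : Magnet.attr a Q ⟶ MonAct.fixedPsh (kerAct Z a) :=
    { app := fun T => TypeCat.ofHom fun φ => ⟨(Magnet.attrToX a Q).app T φ, eval_fixed Q Z hQ a φ.2⟩
      naturality := fun T T' t => ConcreteCategory.hom_ext _ _ fun φ => Subtype.ext
        (ConcreteCategory.congr_hom ((Magnet.attrToX a Q).naturality t) φ) }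
  haveI : ∀ T, IsIso (θ.app T) := fun T => (isIso_iff_bijective _).mpr
    ⟨fun φ φ' h => Subtype.ext (family_unique Q Z hQ a φ.2 φ'.2 (congrArg Subtype.val h)), fun x => by
      obtain ⟨ψ, hψ, he⟩ := exists_family Q Z hQ a x.1 x.2
      exact ⟨⟨ψ, hψ⟩, Subtype.ext he⟩⟩
  haveI : IsIso θ := NatIso.isIso_of_isIso_app θ
  exact ⟨asIso θ, rfl⟩

end MagnetLib
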