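import Groth.Agent.MagnetLib.Coef
import Groth.Agent.MagnetLib.FacePush
import Mathlib.AlgebraicGeometry.ResidueField

/-!
# Stable open subschemes containing the face of a family contain the family
-/

set_option autoImplicit false
set_option linter.style.haveILetI false
universe u

open CategoryTheory CategoryTheory.Limits MonoidalCategory CartesianMonoidalCategory MonObj
  AlgebraicGeometry Opposite
open Magnet
open AttrPtLib (chi chi_ext chi_map chi_comp chi_zero chi_add chi_mul exists_chi)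
open EqLiftLib (IsEqvFam)

noncomputable section

namespace MagnetLib

set_option backward.isDefEq.respectTransparency.types true

variable {S : Scheme.{u}} {M : Type} [AddCommGroup M] {X U : Over S} {aX : MonAct (AMonS S M) X}
  {aU : MonAct (AMonS S M) U}

theorem chi_one_pt {T : Over S} {M' : Type} [AddCommMonoid M'] (m : M') : chi (1 : T ⟶ AMonS S M') m = 1 := by
  obtain ⟨g, hg⟩ := exists_chi (S := S) (M := M') T 1
  have h := chi_mul g (1 : T ⟶ AMonS S M') m
  rw [_root_.mul_one, hg, MonoidHom.one_apply, _root_.one_mul] at h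
  exact h.symm

theorem exists_inv_pt {T : Over S} (g : T ⟶ AMonS S M) : ∃ h : T ⟶ AMonS S M, h * g = 1 := by
  obtain ⟨h, hh⟩ := exists_chi (S := S) (M := M) T
    { toFun := fun m => chi g (-Multiplicative.toAdd m)
      map_one' := by rw [toAdd_one, neg_zero, chi_zero]
      map_mul' := fun x y => by rw [toAdd_mul, neg_add, chi_add] }
  refine ⟨h, chi_ext fun m => ?_⟩
  rw [chi_mul, hh]
  change chi g (-m) * chi g m = _
  rw [← chi_add, neg_add_cancel, chi_zero, chi_one_pt]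

theorem denseRange_map {T : Over S} [IsAffine T.left] {N : Type} [AddCommMonoid N] (f : N →+ M)
    (hf : Function.Injective f) : DenseRange (AMonS.map S f ▷ T).left := by
  haveI := isAffine_amonS_tensor (S := S) M T
  haveI := isAffine_amonS_tensor (S := S) N T
  let π := (AMonS.map S f ▷ T).left
  have h0 : π.ker = ⊥ := by
    refine Scheme.IdealSheafData.ext_of_isAffine ?_
    rw [Scheme.Hom.ker_apply]
    exact (RingHom.injective_iff_ker_eq_bot _).mp (injective_appTop_map f hf T)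
  have h := Scheme.Hom.support_ker π
  rw [h0, Scheme.IdealSheafData.support_bot] at h
  refine dense_iff_closure_eq.mpr ?_
  simpa using h.symm

/-- A family whose face lands in a stable open subscheme lands there. -/
theorem range_subset_of_face (f : U ⟶ X) [IsOpenImmersion f.left] (hf : MonAct.IsEquivariant aU aX f)
    {N Q : AddSubmonoid M} (hQ : IsFace N Q) (hu : ∀ q ∈ Q, -q ∈ Q) {T : Over S}
    {φ : AMonS S ↥N ⊗ T ⟶ X} (hφ : IsEqvFam aX φ) (u : AMonS S ↥Q ⊗ T ⟶ U)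
    (hface : (AMonS.faceMap S hQ ▷ T) ≫ φ = u ≫ f) :
    Set.range φ.left ⊆ Set.range f.left := by
  classical
  rintro _ ⟨p, rfl⟩
  by_contra hp
  let P := AMonS S ↥N ⊗ T
  let K := P.left.residueField p
  let pl : Spec K ⟶ P.left := P.left.fromSpecResidueField p
  let T₁ : Over S := Over.mk (pl ≫ P.hom)
  let pt : T₁ ⟶ P := Over.homMk pl rfl
  let b₀ : T₁ ⟶ AMonS S ↥N := pt ≫ fst _ _
  let t : T₁ ⟶ T := pt ≫ snd _ _
  haveI : IsAffine T₁.left := inferInstanceAs (IsAffine (Spec K))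
  let v : ↥N → K := fun n => (Scheme.ΓSpecIso K).hom (chi b₀ n)
  have v0 : v 0 = 1 := by
    change (Scheme.ΓSpecIso K).hom (chi b₀ (0 : ↥N)) = 1
    rw [chi_zero, map_one]
  have vadd : ∀ x y : ↥N, v (x + y) = v x * v y := fun x y => by
    change (Scheme.ΓSpecIso K).hom (chi b₀ (x + y)) = _
    rw [chi_add, map_mul]
  haveI : Nontrivial K := inferInstance
  have Fadd : ∀ x y : M, (∃ h : x ∈ N, v ⟨x, h⟩ ≠ 0) → (∃ h : y ∈ N, v ⟨y, h⟩ ≠ 0) →
      ∃ h : x + y ∈ N, v ⟨x + y, h⟩ ≠ 0 := fun x y h₁ h₂ =>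
    ⟨N.add_mem h₁.1 h₂.1, fun h => mul_ne_zero h₁.2 h₂.2 ((vadd ⟨x, h₁.1⟩ ⟨y, h₂.1⟩).symm.trans h)⟩
  have Fzero : ∃ h : (0 : M) ∈ N, v ⟨0, h⟩ ≠ 0 := ⟨N.zero_mem, fun h => one_ne_zero (v0.symm.trans h)⟩
  let F : AddSubmonoid M :=
    { carrier := {m | ∃ h : m ∈ N, v ⟨m, h⟩ ≠ 0}
      zero_mem' := Fzero
      add_mem' := fun {x y} h₁ h₂ => Fadd x y h₁ h₂ }
  have hFmem : ∀ x y : M, ∀ (hx : x ∈ N) (hy : y ∈ N), (∃ h : x + y ∈ N, v ⟨x + y, h⟩ ≠ 0) →
      v ⟨x, hx⟩ * v ⟨y, hy⟩ ≠ 0 := fun x y hx hy hh h0 =>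
    hh.elim fun _ h' => h' ((vadd ⟨x, hx⟩ ⟨y, hy⟩).trans h0)
  have hF : IsFace N F := ⟨fun m hm => hm.1, fun x hx y hy hh =>
    ⟨⟨hx, left_ne_zero_of_mul (hFmem x y hx hy hh)⟩, ⟨hy, right_ne_zero_of_mul (hFmem x y hx hy hh)⟩⟩⟩
  have hQF : IsFace F Q := ⟨fun q hq => ⟨hQ.le hq, fun h0 => by
      have h1 := vadd ⟨q, hQ.le hq⟩ ⟨-q, hQ.le (hu q hq)⟩
      rw [show (⟨q, hQ.le hq⟩ : ↥N) + ⟨-q, hQ.le (hu q hq)⟩ = 0 from Subtype.ext (add_neg_cancel q), v0, h0,
        zero_mul] at h1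
      exact one_ne_zero h1⟩,
    fun x hx y hy h => hQ.mem_of_add_mem x hx.1 y hy.1 h⟩
  obtain ⟨d, hd⟩ := exists_chi (S := S) (M := ↥F) T₁
    { toFun := fun m => chi b₀ (AddSubmonoid.inclusion hF.le (Multiplicative.toAdd m))
      map_one' := by rw [toAdd_one, map_zero, chi_zero]
      map_mul' := fun x y => by rw [toAdd_mul, map_add, chi_add] }
  have hzero : ∀ n : ↥N, (n : M) ∉ F → chi b₀ n = 0 := fun n hn => by
    by_contra h
    exact hn ⟨n.2, fun h0 => h ((Scheme.ΓSpecIso K).commRingCatIsoToRingEquiv.injective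
      (h0.trans (map_zero _).symm))⟩
  have hdb : d ≫ AMonS.faceMap S hF = b₀ := chi_ext fun n => by
    rw [chi_faceMap']
    split_ifs with h
    · rw [hd]; rfl
    · exact (hzero n h).symm
  let G : AMonS S ↥F ⊗ T₁ ⟶ P := lift ((fst _ _ * (snd _ _ ≫ d)) ≫ AMonS.faceMap S hF) (snd _ _ ≫ t)
  let C : Set (AMonS S ↥F ⊗ T₁).left := (G ≫ φ).left ⁻¹' (Set.range f.left)ᶜ
  have hC : IsClosed C :=
    (f.left.isOpenEmbedding.isOpen_range.isClosed_compl).preimage (G ≫ φ).left.continuous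
  have hsub : Set.range (AMonS.map S F.subtype ▷ T₁).left ⊆ C := by
    rintro _ ⟨r, rfl⟩ hr
    let πF := (AMonS.map S F.subtype ▷ T₁)
    let O : (AMonS S M ⊗ T₁).left.Opens := (πF ≫ G ≫ φ).left ⁻¹ᵁ f.left.opensRange
    let R : Over S := Over.mk (O.ι ≫ (AMonS S M ⊗ T₁).hom)
    let z : R ⟶ AMonS S M ⊗ T₁ := Over.homMk O.ι rfl
    have hrange : Set.range (z ≫ πF ≫ G ≫ φ).left ⊆ Set.range f.left := by
      rintro _ ⟨w, rfl⟩
      exact w.2
    let w : R ⟶ U := Over.homMk (IsOpenImmersion.lift f.left (z ≫ πF ≫ G ≫ φ).left hrange) (by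
      rw [← Over.w f, IsOpenImmersion.lift_fac_assoc]
      exact Over.w (z ≫ πF ≫ G ≫ φ))
    have hw : w ≫ f = z ≫ πF ≫ G ≫ φ := Over.OverMorphism.ext (IsOpenImmersion.lift_fac _ _ hrange)
    let g := z ≫ fst _ _
    let s := z ≫ snd _ _
    obtain ⟨h, hh⟩ := exists_inv_pt g
    have hact : z ≫ πF ≫ G ≫ φ = lift g (s ≫ pt ≫ φ) ≫ aX.act := by
      rw [← lift_comp_fst_snd z, lift_whiskerRight_assoc]
      simp only [G, ← Category.assoc, comp_lift, MonObj.comp_mul, lift_fst, lift_snd]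
      have hq := (MonAct.isEquivariant_iff _ _ _).mp (isEquivariant_faceMapS S hF) R g (s ≫ d)
      rw [← Category.assoc, EqLiftLib.lift_subAct] at hq
      change lift ((g ≫ AMonS.map S F.subtype * s ≫ d) ≫ AMonS.faceMap S hF) (s ≫ t) ≫ φ = _
      rw [hq, Category.assoc s, hdb, (MonAct.mem_eqvHom_iff φ).mp hφ R g]
      congr 2
      rw [← comp_lift, show lift b₀ t = pt from lift_comp_fst_snd pt]
    have hlow : s ≫ pt ≫ φ = (lift h w ≫ aU.act) ≫ f := by
      rw [Category.assoc (lift h w), (MonAct.isEquivariant_iff _ _ _).mp hf, hw, hact, ← aX.lift_mul_act, hh,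
        aX.lift_one_act]
    let r' : R.left := ⟨r, hr⟩
    refine hp ⟨(lift h w ≫ aU.act).left r', ?_⟩
    have e : φ.left (pt.left (s.left r')) = f.left ((lift h w ≫ aU.act).left r') :=
      congrArg (fun k => k.left r') hlow
    rw [show pt.left (s.left r') = p from Scheme.fromSpecResidueField_apply p _] at e
    exact e.symm
  have hall : C = Set.univ := by
    refine Set.eq_univ_of_univ_subset ?_
    rw [← (denseRange_map (T := T₁) F.subtype Subtype.val_injective).closure_range]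
    exact closure_minimal hsub hC
  let e₁ : T₁ ⟶ AMonS S ↥F ⊗ T₁ := lift ((1 : T₁ ⟶ AMonS S ↥Q) ≫ AMonS.faceMap S hQF) (𝟙 T₁)
  have he : e₁ ≫ G = lift ((d ≫ AMonS.map S (AddSubmonoid.inclusion hQF.le)) ≫ AMonS.faceMap S hQ) t := by
    simp only [e₁, G, comp_lift, MonObj.comp_mul, ← Category.assoc, lift_fst, lift_snd, Category.id_comp]
    congr 1
    refine chi_ext fun n => ?_
    simp only [chi_faceMap', chi_mul, chi_map, chi_one_pt]
    by_cases hn : (n : M) ∈ Q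
    · rw [dif_pos (hQF.le hn), dif_pos hn, dif_pos hn, _root_.one_mul]
      rfl
    · rw [dif_neg hn]
      split_ifs <;> simp
  obtain ⟨x⟩ := (inferInstance : Nonempty (PrimeSpectrum K))
  have h1 : e₁.left x ∈ C := hall ▸ trivial
  refine h1 ⟨(lift (d ≫ AMonS.map S (AddSubmonoid.inclusion hQF.le)) t ≫ u).left x, ?_⟩
  have h2 : (lift (d ≫ AMonS.map S (AddSubmonoid.inclusion hQF.le)) t ≫ u) ≫ f = e₁ ≫ G ≫ φ := by
    rw [Category.assoc, ← hface, lift_whiskerRight_assoc, ← Category.assoc e₁, he]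
  exact congrArg (fun k => k.left x) h2

/-- The lift of a family to a stable open subscheme containing its face. -/
theorem exists_lift_of_face (f : U ⟶ X) [IsOpenImmersion f.left] (hf : MonAct.IsEquivariant aU aX f)
    {N Q : AddSubmonoid M} (hQ : IsFace N Q) (hu : ∀ q ∈ Q, -q ∈ Q) {T : Over S}
    {φ : AMonS S ↥N ⊗ T ⟶ X} (hφ : IsEqvFam aX φ) (u : AMonS S ↥Q ⊗ T ⟶ U)
    (hface : (AMonS.faceMap S hQ ▷ T) ≫ φ = u ≫ f) :
    ∃ δ : AMonS S ↥N ⊗ T ⟶ U, IsEqvFam aU δ ∧ δ ≫ f = φ ∧ (AMonS.faceMap S hQ ▷ T) ≫ δ = u := by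
  have hr := range_subset_of_face f hf hQ hu hφ u hface
  let δ : AMonS S ↥N ⊗ T ⟶ U := Over.homMk (IsOpenImmersion.lift f.left φ.left hr) (by
    rw [← Over.w f, IsOpenImmersion.lift_fac_assoc]
    exact Over.w φ)
  have hδ : δ ≫ f = φ := Over.OverMorphism.ext (IsOpenImmersion.lift_fac _ _ hr)
  haveI : Mono f := (Over.forget S).mono_of_mono_map (show Mono f.left from inferInstance)
  refine ⟨δ, ?_, hδ, (cancel_mono f).mp (by rw [Category.assoc, hδ, hface])⟩
  rw [IsEqvFam, MonAct.mem_eqvHom_iff]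
  intro R g b t
  rw [← cancel_mono f, Category.assoc, Category.assoc, hδ, (MonAct.isEquivariant_iff _ _ _).mp hf,
    Category.assoc, hδ]
  exact (MonAct.mem_eqvHom_iff φ).mp hφ R g b t

end MagnetLib
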