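import Groth.Agent.S3861
import Groth.Prelude.Def_Magnet3
import Mathlib.AlgebraicGeometry.Morphisms.FormallyUnramified

/-!
# Uniqueness of infinitesimal extensions of families along formally unramified morphisms
-/

set_option autoImplicit false
universe u

open CategoryTheory CategoryTheory.Limits MonoidalCategory CartesianMonoidalCategory AlgebraicGeometry Opposite

namespace MagnetLib

theorem ker_sq_eq_bot {R T : CommRingCat.{u}} (φ : R ⟶ T) (h : RingHom.ker φ.hom ^ 2 = ⊥) :
    (Spec.map φ).ker * (Spec.map φ).ker = ⊥ := by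
  refine Scheme.IdealSheafData.ext_of_isAffine ?_
  rw [Scheme.IdealSheafData.ideal_mul, Pi.mul_apply, Scheme.Hom.ker_apply]
  change RingHom.ker (Spec.map φ).appTop.hom * RingHom.ker (Spec.map φ).appTop.hom = ⊥
  refine le_bot_iff.1 (Ideal.mul_le.2 fun x hx y hy => ?_)
  have key : ∀ z, z ∈ RingHom.ker (Spec.map φ).appTop.hom →
      (Scheme.ΓSpecIso R).hom z ∈ RingHom.ker φ.hom := by
    intro z hz
    have := congrArg (fun k => k.hom z) (Scheme.ΓSpecIso_naturality φ)
    simp only [CommRingCat.hom_comp, RingHom.comp_apply] at this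
    rw [RingHom.mem_ker, ← this, RingHom.mem_ker.1 hz, map_zero]
  have h2 : (Scheme.ΓSpecIso R).hom (x * y) ∈ RingHom.ker φ.hom ^ 2 := by
    rw [map_mul, pow_two]
    exact Ideal.mul_mem_mul (key x hx) (key y hy)
  rw [h, Ideal.mem_bot] at h2
  rw [Ideal.mem_bot]
  exact (Scheme.ΓSpecIso R).commRingCatIsoToRingEquiv.injective (h2.trans (map_zero _).symm)

/-- Families agreeing on a square zero thickening of the parameters and after a formally unramified map agree. -/
theorem eq_of_thickening {S : Scheme.{u}} {B X Y T T' : Over S} (f : X ⟶ Y) [FormallyUnramified f.left]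
    (j : T ⟶ T') [IsClosedImmersion j.left] (hj : j.left.ker * j.left.ker = ⊥) (a b : B ⊗ T' ⟶ X)
    (h : (B ◁ j) ≫ a = (B ◁ j) ≫ b) (hf : a ≫ f = b ≫ f) : a = b := by
  let s : (B ⊗ T').left ⟶ T'.left := (snd B T').left
  let i : pullback s j.left ⟶ (B ⊗ T').left := pullback.fst s j.left
  haveI : IsClosedImmersion i := MorphismProperty.pullback_fst _ _ inferInstance
  have hker : IsNilpotent i.ker := ⟨2, by
    rw [pow_two, Scheme.IdealSheafData.ker_fst_of_isClosedImmersion, ← Groth.Agent.S3861.result, hj,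
      Scheme.IdealSheafData.comap_bot]
    rfl⟩
  let Z : Over S := Over.mk (i ≫ (B ⊗ T').hom)
  let ι' : Z ⟶ B ⊗ T' := Over.homMk i rfl
  let p : Z ⟶ T := Over.homMk (pullback.snd s j.left) (by
    change pullback.snd s j.left ≫ T.hom = i ≫ (B ⊗ T').hom
    rw [← Over.w j, ← Over.w (snd B T'), ← Category.assoc, ← pullback.condition, Category.assoc])
  have hp : p ≫ j = ι' ≫ snd B T' := Over.OverMorphism.ext pullback.condition.symm
  have hz : lift (ι' ≫ fst B T') p ≫ (B ◁ j) = ι' := by
    rw [lift_whiskerLeft, hp, lift_comp_fst_snd]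
  have hi : i ≫ a.left = i ≫ b.left := by
    have h' := congrArg (lift (ι' ≫ fst B T') p ≫ ·) h
    simp only [← Category.assoc, hz] at h'
    exact congrArg CommaMorphism.left h'
  exact Over.OverMorphism.ext (FormallyUnramified.hom_ext i hker f.left hi (congrArg CommaMorphism.left hf))

end MagnetLib
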