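import Groth.Agent.MagnetLib.OpenFace
import Groth.Agent.MagnetLib.Fixed
import Groth.Agent.MagnetLib.AffineGrading
import Groth.Agent.MagnetSymLib.Reduce
import Mathlib.AlgebraicGeometry.Morphisms.Smooth

/-!
# The face projection of an attractor of a smooth scheme is locally a vector bundle
-/

set_option autoImplicit false
set_option linter.style.haveILetI false
universe u

open CategoryTheory CategoryTheory.Limits MonoidalCategory CartesianMonoidalCategory MonObj
  AlgebraicGeometry Opposite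
open Magnet
open AttrPtLib (chi chi_ext chi_map)
open EqLiftLib (IsEqvFam)

noncomputable section

namespace MagnetLib

set_option backward.isDefEq.respectTransparency.types true

variable {S : Scheme.{u}} {M : Type} [AddCommGroup M]

/-- A section vanishing on affine opens vanishes. -/
theorem eq_zero_of_affineOpens {Y : Scheme.{u}} (r : Γ(Y, ⊤))
    (h : ∀ V : Y.affineOpens, (V : Y.Opens).ι.appTop r = 0) : r = 0 := by
  refine TopCat.Sheaf.eq_of_locally_eq' Y.sheaf (fun V : Y.affineOpens => (V : Y.Opens)) ⊤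
    (fun V => homOfLE le_top) (by rw [iSup_affineOpens_eq_top]) r 0 fun V => ?_
  rw [map_zero]
  have hV := congrArg ((V : Y.Opens).topIso.hom) (h V)
  rw [map_zero] at hV
  have e : (V : Y.Opens).ι.appTop ≫ (V : Y.Opens).topIso.hom =
      Y.presheaf.map (homOfLE (le_top : (V : Y.Opens) ≤ ⊤)).op := by
    rw [Scheme.Opens.ι_appTop, Scheme.Opens.topIso_hom]
    exact (Y.presheaf.map_comp _ _).symm
  exact ((ConcreteCategory.congr_hom e r).symm.trans hV : _)

theorem comap_map_of_unitFace {N : AddSubmonoid M} {Z : AddSubgroup M}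
    (hQ : ∀ m, m ∈ Magnet.unitFace N ↔ m ∈ Z) :
    (N.map (QuotientAddGroup.mk' Z)).comap (QuotientAddGroup.mk' Z) = N := by
  refine le_antisymm ?_ fun m hm => ⟨m, hm, rfl⟩
  rintro m ⟨n, hn, hnm⟩
  obtain ⟨z, hz, rfl⟩ := (QuotientAddGroup.mk'_eq_mk' Z).mp hnm
  exact N.add_mem hn (Magnet.unitFace_le N ((hQ z).mpr hz))

theorem pointed_map_of_unitFace {N : AddSubmonoid M} {Z : AddSubgroup M}
    (hQ : ∀ m, m ∈ Magnet.unitFace N ↔ m ∈ Z) :
    ∀ m ∈ N.map (QuotientAddGroup.mk' Z), -m ∈ N.map (QuotientAddGroup.mk' Z) → m = 0 := by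
  intro m hm hm'
  obtain ⟨n, rfl⟩ := QuotientAddGroup.mk'_surjective Z m
  have h1 : n ∈ N := (comap_map_of_unitFace hQ).le hm
  have h2 : -n ∈ N := (comap_map_of_unitFace hQ).le (show QuotientAddGroup.mk' Z (-n) ∈ _ by rwa [map_neg])
  exact (QuotientAddGroup.eq_zero_iff n).mpr ((hQ n).mp ⟨h1, -n, h2, add_neg_cancel n⟩)

theorem isFace_bot_of_pointed {G : Type} [AddCommGroup G] {N : AddSubmonoid G}
    (h : ∀ m ∈ N, -m ∈ N → m = 0) : IsFace N ⊥ :=
  ⟨bot_le, fun x hx y hy hxy => by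
    rw [AddSubmonoid.mem_bot] at hxy ⊢
    have hx0 : x = 0 := h x hx (by rw [neg_eq_of_add_eq_zero_right hxy]; exact hy)
    exact ⟨hx0, by rwa [hx0, zero_add] at hxy⟩⟩

set_option backward.isDefEq.respectTransparency.types false in
theorem smooth_snd (U W : Over S) [Smooth U.hom] : Smooth (snd U W).left :=
  MorphismProperty.pullback_snd (P := @Smooth) U.hom W.hom inferInstance

variable {X U : Over S}

theorem exists_bundle [AddGroup.FG M] (a : MonAct (AMonS S M) X) (aU : MonAct (AMonS S M) U)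
    [IsAffineHom U.hom] [Smooth U.hom] (f : U ⟶ X) [IsOpenImmersion f.left]
    (hf : MonAct.IsEquivariant aU a f) (N : AddSubmonoid M) {ZN Z0 : Over S}
    (eN : (attr a N).RepresentableBy ZN) (e0 : (attr a (unitFace N)).RepresentableBy Z0) (j : ZN ⟶ Z0)
    (hj : ∀ (T : Over S) (z : T ⟶ ZN),
      e0.homEquiv (z ≫ j) = (attrFace a (isFace_unitFace N)).app (op T) (eN.homEquiv z))
    (W : Z0.left.Opens) (hW : IsAffineOpen W)
    (hWU : Set.range (W.ι ≫ ((attrToX a (unitFace N)).app (op Z0) (e0.homEquiv (𝟙 Z0))).left) ⊆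
      Set.range f.left) :
    ∃ (P : Type u) (_ : AddCommGroup P) (_ : Module Γ(Z0.left, W) P),
        Module.Finite Γ(Z0.left, W) P ∧ Module.Projective Γ(Z0.left, W) P ∧
        ∃ e : (↑(j.left ⁻¹ᵁ W) : Scheme.{u}) ≅ Spec (CommRingCat.of (SymmetricAlgebra Γ(Z0.left, W) P)),
          e.hom ≫ Spec.map (CommRingCat.ofHom (algebraMap Γ(Z0.left, W) (SymmetricAlgebra Γ(Z0.left, W) P))) =
            (j.left ∣_ W) ≫ hW.isoSpec.hom := by
  classical
  let Q := unitFace N
  have hface : IsFace N Q := isFace_unitFace N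
  have hu : ∀ q ∈ Q, -q ∈ Q := by
    intro q hq
    obtain ⟨h1, y, hy, hqy⟩ := hq
    rw [show -q = y from neg_eq_of_add_eq_zero_right hqy]
    exact ⟨hy, q, h1, by rw [add_comm, hqy]⟩
  let Z : AddSubgroup M := { Q with neg_mem' := fun {q} hq => hu q hq }
  have hQ : ∀ m, m ∈ Q ↔ m ∈ Z := fun m => Iff.rfl
  haveI : Mono f := (Over.forget S).mono_of_mono_map (show Mono f.left from inferInstance)
  haveI : IsSeparated U.hom := inferInstance
  let G := M ⧸ Z
  let a' : MonAct (AMonS S G) U := kerAct Z aU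
  let mkZ : M →+ G := QuotientAddGroup.mk' Z
  let Nb : AddSubmonoid G := N.map mkZ
  have hcomap : Nb.comap mkZ = N := comap_map_of_unitFace hQ
  have hpt := pointed_map_of_unitFace hQ
  have hbot : IsFace Nb ⊥ := isFace_bot_of_pointed hpt
  -- the base
  let W' : Over S := Over.mk (W.ι ≫ Z0.hom)
  let ιW : W' ⟶ Z0 := Over.homMk W.ι rfl
  haveI : IsAffine W'.left := hW
  haveI : IsAffine (W : Scheme.{u}) := hW
  let ψ := e0.homEquiv ιW
  have hψev : lift (toUnit W' ≫ η[AMonS S ↥Q]) (𝟙 W') ≫ ψ.1 =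
      ιW ≫ (attrToX a Q).app (op Z0) (e0.homEquiv (𝟙 Z0)) := by
    have h1 : ψ = (attr a Q).map ιW.op (e0.homEquiv (𝟙 Z0)) := by
      rw [← e0.homEquiv_comp, Category.comp_id]
    rw [h1]
    exact ConcreteCategory.congr_hom ((attrToX a Q).naturality ιW.op) _
  obtain ⟨x, hx⟩ : ∃ x : W' ⟶ U, x ≫ f = lift (toUnit W' ≫ η[AMonS S ↥Q]) (𝟙 W') ≫ ψ.1 := by
    refine ⟨Over.homMk (IsOpenImmersion.lift f.left _ hWU) ?_, ?_⟩
    · rw [← Over.w f, IsOpenImmersion.lift_fac_assoc, Category.assoc]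
      exact congrArg (W.ι ≫ ·) (Over.w ((attrToX a Q).app (op Z0) (e0.homEquiv (𝟙 Z0))))
    · rw [hψev]
      exact Over.OverMorphism.ext (IsOpenImmersion.lift_fac _ _ hWU)
  have hxfix : ∀ (T' : Over S) (t : T' ⟶ W') (g : T' ⟶ AMonS S G), lift g (t ≫ x) ≫ a'.act = t ≫ x := by
    intro T' t g
    have h := eval_fixed Q Z hQ a (ψ := ψ.1) ψ.2 T' t g
    rw [← hx] at h
    rw [← cancel_mono f, Category.assoc, Category.assoc, MonAct.restrict_act, Category.assoc,
      lift_whiskerRight_assoc, (MonAct.isEquivariant_iff _ _ _).mp hf, ← h, MonAct.lift_restrict_act, Category.assoc]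
  obtain ⟨uW, huW, huWx⟩ := exists_family Q Z hQ aU x hxfix
  have huWf : uW ≫ f = ψ.1 := family_unique Q Z hQ a
    ((MonAct.eqvHom.postcomp (subAct S M Q) f hf).app (op W') ⟨uW, huW⟩).2 ψ.2 (by rw [reassoc_of% huWx, hx])
  have horbx : orbit a' x = snd (AMonS S G) W' ≫ x := by
    apply hom_ext_lift₂
    intro T' g t
    rw [orbit_apply, hxfix, lift_snd_assoc]
  -- the rings
  haveI : IsAffine (U ⊗ W').left := isAffine_tensor_left (X := U) W'
  let A : Type u := Γ((U ⊗ W').left, ⊤)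
  let B : Type u := Γ(Z0.left, W)
  let ψB : Γ(Z0.left, W) ⟶ Γ((U ⊗ W').left, ⊤) := W.topIso.inv ≫ (snd U W').left.appTop
  letI : Algebra B A := ψB.hom.toAlgebra
  have halg : ∀ b : B, algebraMap B A b = (snd U W').left.appTop (W.topIso.inv b) := fun b => rfl
  let ρ : A →ₐ[B] MonoidAlgebra A (Multiplicative G) :=
    { coRing a' W' with
      commutes' := fun b => by
        refine (congrArg (coRing a' W') (halg b)).trans ((coRing_snd a' W' _).trans ?_)
        rw [← halg b]
        rfl }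
  have hρ : MagnetSymLib.Coact ρ :=
    ⟨fun r m => coRing_coassoc a' W' r m, fun r => coRing_counit a' W' r⟩
  letI := hρ.gradedAlgebra
  let 𝒜 := MagnetSymLib.piece ρ
  have hpiece : ∀ {m : G} {r : A}, r ∈ 𝒜 m →
      coRing a' W' r = MonoidAlgebra.single (Multiplicative.ofAdd m) r := fun h => h
  let ev : W' ⟶ U ⊗ W' := lift x (𝟙 W')
  let ε : A →ₐ[B] B :=
    { (ev.left.appTop ≫ W.topIso.hom).hom with
      commutes' := fun b => by
        change W.topIso.hom (ev.left.appTop ((snd U W').left.appTop (W.topIso.inv b))) = b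
        rw [← ConcreteCategory.comp_apply _ ev.left.appTop, ← Scheme.Hom.comp_appTop, ← Over.comp_left]
        simp only [ev, lift_snd, Over.id_left, Scheme.Hom.id_appTop, ConcreteCategory.id_apply]
        exact W.topIso.inv_hom_id_apply b }
  have hεev : ∀ r : A, W.topIso.inv (ε r) = ev.left.appTop r := fun r => W.topIso.hom_inv_id_apply _
  have hε : ∀ m, m ≠ 0 → ∀ r ∈ 𝒜 m, ε r = 0 := fun m hm r hr => by
    change W.topIso.hom (ev.left.appTop r) = 0
    rw [eval_fixed_piece a' W' horbx (hpiece hr) hm, map_zero]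
  haveI hsm : Algebra.Smooth B A := by
    haveI : Smooth (snd U W').left := smooth_snd U W'
    have h1 : (snd U W').left.appTop.hom.Smooth := HasRingHomProperty.appTop (P := @Smooth) _ inferInstance
    have h2 : ψB.hom.Smooth := RingHom.Smooth.respectsIso.2 (snd U W').left.appTop.hom
      W.topIso.symm.commRingCatIsoToRingEquiv h1
    exact RingHom.smooth_algebraMap.mp h2
  obtain ⟨P, iP, iMP, hPfin, hPproj, ⟨σ⟩⟩ :=
    MagnetSymLib.exists_symIso' 𝒜 ε Nb hpt hε
  refine ⟨P, iP, iMP, hPfin, hPproj, ?_⟩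
  let J := MagnetSymLib.posIdeal 𝒜 ε Nb
  let C : CommRingCat.{u} := CommRingCat.of (A ⧸ J)
  let mkJ : Γ((U ⊗ W').left, ⊤) ⟶ C := CommRingCat.ofHom (Ideal.Quotient.mk J)
  let γBC : Γ(Z0.left, W) ⟶ C := CommRingCat.ofHom (algebraMap B (A ⧸ J))
  have hγBC : γBC = ψB ≫ mkJ := rfl
  -- the universal point
  let pl : Spec C ⟶ (U ⊗ W').left := Spec.map mkJ ≫ (U ⊗ W').left.isoSpec.inv
  let ql : Spec C ⟶ W'.left := pl ≫ (snd U W').left
  let Cw : Over S := Over.mk (pl ≫ (U ⊗ W').hom)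
  haveI : IsAffine Cw.left := inferInstanceAs (IsAffine (Spec C))
  let p : Cw ⟶ U ⊗ W' := Over.homMk pl rfl
  let q : Cw ⟶ W' := p ≫ snd U W'
  have hp : ∀ r : A, p.left.appTop r = (Scheme.ΓSpecIso C).inv (mkJ r) := fun r => by
    have h1 : (U ⊗ W').left.isoSpec.inv.appTop = (Scheme.ΓSpecIso _).inv := by
      haveI : IsIso (U ⊗ W').left.isoSpec.hom.appTop := ⟨(U ⊗ W').left.isoSpec.inv.appTop,
        by rw [← Scheme.Hom.comp_appTop, Iso.inv_hom_id, Scheme.Hom.id_appTop],
        by rw [← Scheme.Hom.comp_appTop, Iso.hom_inv_id, Scheme.Hom.id_appTop]⟩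
      rw [← cancel_mono (U ⊗ W').left.isoSpec.hom.appTop, ← Scheme.Hom.comp_appTop, Iso.hom_inv_id,
        Scheme.Hom.id_appTop]
      simp [Scheme.isoSpec, Scheme.toSpecΓ_appTop]
    change (Spec.map mkJ ≫ (U ⊗ W').left.isoSpec.inv).appTop r = _
    rw [Scheme.Hom.comp_appTop, h1, ← Scheme.ΓSpecIso_inv_naturality]
    rfl
  haveI : Mono p := by
    haveI : IsClosedImmersion (Spec.map mkJ) :=
      IsClosedImmersion.spec_of_surjective mkJ Ideal.Quotient.mk_surjective
    haveI : Mono p.left := inferInstanceAs (Mono (Spec.map mkJ ≫ (U ⊗ W').left.isoSpec.inv))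
    exact (Over.forget S).mono_of_mono_map (show Mono p.left from inferInstance)
  have hq : ∀ b : B, q.left.appTop (W.topIso.inv b) = (Scheme.ΓSpecIso C).inv (γBC b) := fun b => by
    change (p.left ≫ (snd U W').left).appTop _ = _
    rw [Scheme.Hom.comp_appTop, ConcreteCategory.comp_apply]
    exact hp _
  -- comparison of the fine and the coarse monoids
  let g : ↥N →+ ↥Nb := (mkZ.comp N.subtype).codRestrict Nb fun n => ⟨n.1, n.2, rfl⟩
  have hcoarse : ∀ {T : Over S} (y : T ⟶ U) (δ : AMonS S ↥N ⊗ T ⟶ U),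
      (AMonS.map S N.subtype ▷ T) ≫ δ = orbit aU y →
        (AMonS.map S Nb.subtype ▷ T) ≫ (AMonS.map S g ▷ T) ≫ δ = orbit a' y := by
    intro T y δ h
    rw [orbit_restrict, ← h]
    simp only [← comp_whiskerRight_assoc, ← AMonS.map_comp]
    rfl
  have hpt1 : ∀ (T : Over S), ((1 : T ⟶ AMonS S ↥(⊥ : AddSubmonoid G)) ≫ AMonS.faceMap S hbot) ≫ AMonS.map S g =
      (1 : T ⟶ AMonS S ↥Q) ≫ AMonS.faceMap S hface := by
    intro T
    refine chi_ext fun n => ?_
    rw [chi_map, chi_faceMap', chi_faceMap']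
    have hiff : ((g n : ↥Nb) : G) ∈ (⊥ : AddSubmonoid G) ↔ (n : M) ∈ Q :=
      AddSubmonoid.mem_bot.trans ((QuotientAddGroup.eq_zero_iff (n : M)).trans (hQ _).symm)
    by_cases hn : (n : M) ∈ Q
    · rw [dif_pos hn, dif_pos (hiff.mpr hn), chi_one_pt, chi_one_pt]
    · rw [dif_neg hn, dif_neg fun h => hn (hiff.mp h)]
  -- the value of a family on its face
  have hev : ∀ {T : Over S} [IsAffine T.left] (y : T ⟶ U ⊗ W') (δ : AMonS S ↥N ⊗ T ⟶ U),
      (AMonS.map S N.subtype ▷ T) ≫ δ = orbit aU (y ≫ fst U W') → ∀ {m : G} {r : A}, r ∈ 𝒜 m →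
      (lift (lift (toUnit T ≫ η[AMonS S ↥Q]) (𝟙 T) ≫ (AMonS.faceMap S hface ▷ T) ≫ δ)
          (y ≫ snd U W')).left.appTop r = if m = 0 then y.left.appTop r else 0 := by
    intro T _ y δ hδ m r hr
    have h := eval_face_piece a' W' hbot y (hcoarse _ δ hδ) (hpiece hr)
    rw [lift_whiskerRight_assoc, hpt1 T, ← lift_whiskerRight_assoc] at h
    rw [← Hom.one_def, h]
    exact if_congr AddSubmonoid.mem_bot rfl rfl
  -- the family over the universal point
  have hpkill : ∀ r m, coRing a' W' r = MonoidAlgebra.single (Multiplicative.ofAdd m) r → m ∉ Nb →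
      p.left.appTop r = 0 := fun r m hr hm => by
    rw [hp]
    refine (congrArg (Scheme.ΓSpecIso C).inv ?_).trans (map_zero _)
    exact Ideal.Quotient.eq_zero_iff_mem.mpr (Ideal.subset_span (Or.inl ⟨m, hm, hr⟩))
  obtain ⟨δC, hδC⟩ : Ext aU N (p ≫ fst U W') :=
    hcomap ▸ ext_of_ext_restrict aU mkZ Nb (p ≫ fst U W') (ext_of_kills a' W' p hpkill)
  let δC' : (attr aU N).obj (op Cw) := ⟨δC, isEqvFam_of_ext hδC⟩
  let c : Cw ⟶ ZN := eN.homEquiv.symm ((MonAct.eqvHom.postcomp (subAct S M N) f hf).app (op Cw) δC')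
  have hc1 : (eN.homEquiv c).1 = δC ≫ f := congrArg Subtype.val (eN.homEquiv.apply_symm_apply _)
  have hCface : lift (toUnit Cw ≫ η[AMonS S ↥Q]) (𝟙 Cw) ≫ (AMonS.faceMap S hface ▷ Cw) ≫ δC = q ≫ x := by
    have hl : lift (lift (toUnit Cw ≫ η[AMonS S ↥Q]) (𝟙 Cw) ≫ (AMonS.faceMap S hface ▷ Cw) ≫ δC) q = q ≫ ev := by
      refine Over.OverMorphism.ext (ext_of_isAffine (CommRingCat.hom_ext (RingHom.ext fun r => ?_)))
      change _ = (q.left ≫ ev.left).appTop r
      rw [Scheme.Hom.comp_appTop, ConcreteCategory.comp_apply, ← hεev, hq]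
      induction r using DirectSum.Decomposition.inductionOn 𝒜 with
      | zero => simp
      | add r s hr hs => simp only [map_add, hr, hs]
      | homogeneous r =>
        rename_i m
        refine (hev p δC hδC r.2).trans ?_
        by_cases hm : m = 0
        · subst hm
          rw [if_pos rfl, hp]
          refine congrArg (Scheme.ΓSpecIso C).inv ?_
          change Ideal.Quotient.mk J r.1 = Ideal.Quotient.mk J (algebraMap B A (ε r.1))
          rw [Ideal.Quotient.eq]
          exact Ideal.subset_span (Or.inr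
            ⟨(𝒜 0).sub_mem r.2 (SetLike.algebraMap_mem_graded 𝒜 (ε r.1)), by simp⟩)
        · rw [if_neg hm, hε m hm r.1 r.2, map_zero, map_zero]
    have h2 := congrArg (· ≫ fst U W') hl
    simpa only [lift_fst, Category.assoc, ev, Category.id_comp] using h2
  have hcj : c ≫ j = q ≫ ιW := by
    apply e0.homEquiv.injective
    rw [hj, e0.homEquiv_comp]
    refine Subtype.ext ?_
    change (AMonS.faceMap S hface ▷ Cw) ≫ (eN.homEquiv c).1 = (AMonS S ↥Q ◁ q) ≫ ψ.1
    have h : (AMonS.faceMap S hface ▷ Cw) ≫ δC = (AMonS S ↥Q ◁ q) ≫ uW := by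
      refine family_unique Q Z hQ aU ((attrFace aU hface).app (op Cw) δC').2
        ((attr aU Q).map q.op ⟨uW, huW⟩).2 ?_
      rw [hCface, lift_whiskerLeft_assoc, Category.id_comp, ← huWx, comp_lift_assoc, comp_toUnit_assoc,
        Category.comp_id]
    rw [hc1, ← Category.assoc, h, Category.assoc, huWf]
  -- the part of the attractor over the base
  let O : ZN.left.Opens := j.left ⁻¹ᵁ W
  let ZW : Over S := Over.mk (O.ι ≫ ZN.hom)
  let iZ : ZW ⟶ ZN := Over.homMk O.ι rfl
  let jW : ZW ⟶ W' := Over.homMk (j.left ∣_ W) (by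
    change (j.left ∣_ W) ≫ W.ι ≫ Z0.hom = O.ι ≫ ZN.hom
    rw [morphismRestrict_ι_assoc, Over.w j])
  have hjW : jW ≫ ιW = iZ ≫ j := Over.OverMorphism.ext (morphismRestrict_ι _ _)
  haveI : Mono iZ := (Over.forget S).mono_of_mono_map (show Mono O.ι from inferInstance)
  haveI : Mono ιW := (Over.forget S).mono_of_mono_map (show Mono W.ι from inferInstance)
  let gz := eN.homEquiv iZ
  have hγface : (AMonS.faceMap S hface ▷ ZW) ≫ gz.1 = ((AMonS S ↥Q ◁ jW) ≫ uW) ≫ f := by
    have h := congrArg Subtype.val (hj ZW iZ)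
    rw [← hjW, e0.homEquiv_comp] at h
    rw [Category.assoc, huWf]
    exact h.symm
  obtain ⟨δ, hδ, hδf, hδu⟩ := exists_lift_of_face f hf hface hu gz.2 ((AMonS S ↥Q ◁ jW) ≫ uW) hγface
  let y : ZW ⟶ U ⊗ W' := lift (lift (toUnit ZW ≫ η[AMonS S ↥N]) (𝟙 ZW) ≫ δ) jW
  have hδext : (AMonS.map S N.subtype ▷ ZW) ≫ δ = orbit aU (y ≫ fst U W') := by
    rw [lift_fst]
    exact ext_of_isEqvFam hδ
  have hykill : ∀ r ∈ J, y.left.appTop r = 0 := by
    intro r hr
    refine eq_zero_of_affineOpens _ fun V => ?_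
    let T : Over S := Over.mk ((V : ZW.left.Opens).ι ≫ ZW.hom)
    let e : T ⟶ ZW := Over.homMk (V : ZW.left.Opens).ι rfl
    haveI : IsAffine T.left := V.2
    let δT := (AMonS S ↥N ◁ e) ≫ δ
    have hδT : (AMonS.map S N.subtype ▷ T) ≫ δT = orbit aU ((e ≫ y) ≫ fst U W') := by
      rw [← whisker_exchange_assoc, hδext, ← orbit_comp, Category.assoc]
    have hle : J ≤ RingHom.ker (e ≫ y).left.appTop.hom := by
      refine Ideal.span_le.mpr ?_
      rintro s (⟨m, hm, hs⟩ | ⟨hs, hs0⟩)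
      · exact kills_of_ext a' W' (e ≫ y) ⟨_, hcoarse _ δT hδT⟩ (hpiece hs) hm
      · have h := hev (e ≫ y) δT hδT hs
        rw [if_pos rfl] at h
        refine h.symm.trans ?_
        have he : lift (lift (toUnit T ≫ η[AMonS S ↥Q]) (𝟙 T) ≫ (AMonS.faceMap S hface ▷ T) ≫ δT)
            ((e ≫ y) ≫ snd U W') = (e ≫ jW) ≫ ev := by
          simp only [ev, comp_lift, Category.comp_id, Category.assoc, y, lift_snd, δT]
          congr 1
          rw [← whisker_exchange_assoc, hδu, lift_whiskerLeft_assoc, lift_whiskerLeft_assoc, ← huWx,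
            comp_lift_assoc, comp_lift_assoc, comp_toUnit_assoc, comp_toUnit_assoc, Category.comp_id, Category.id_comp]
        rw [he, Over.comp_left, Scheme.Hom.comp_appTop, ConcreteCategory.comp_apply, ← hεev, hs0, map_zero, map_zero]
    exact hle hr
  let η' : C ⟶ Γ(ZW.left, ⊤) := CommRingCat.ofHom (Ideal.Quotient.lift J y.left.appTop.hom hykill)
  have hto : (ZW.left.toSpecΓ ≫ Spec.map η') ≫ pl = y.left := by
    refine ext_of_isAffine (CommRingCat.hom_ext (RingHom.ext fun r => ?_))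
    change ((ZW.left.toSpecΓ ≫ Spec.map η') ≫ p.left).appTop r = _
    rw [Scheme.Hom.comp_appTop, ConcreteCategory.comp_apply, hp, Scheme.Hom.comp_appTop,
      ← ConcreteCategory.comp_apply, ← Category.assoc, ← Scheme.ΓSpecIso_inv_naturality, Category.assoc,
      Scheme.toSpecΓ_appTop, Iso.inv_hom_id, Category.comp_id]
    rfl
  let toC : ZW ⟶ Cw := Over.homMk (ZW.left.toSpecΓ ≫ Spec.map η') (by
    change _ ≫ pl ≫ (U ⊗ W').hom = _
    rw [← Category.assoc, hto, Over.w y])
  have htop : toC ≫ p = y := Over.OverMorphism.ext hto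
  have htoq : toC ≫ q = jW := by
    rw [← Category.assoc, htop]
    exact lift_snd _ _
  have hrange : Set.range c.left ⊆ Set.range O.ι := by
    rw [Scheme.Opens.range_ι]
    rintro _ ⟨s, rfl⟩
    change j.left (c.left s) ∈ W
    have h := congrArg (fun k => k.left s) hcj
    change j.left (c.left s) = W.ι (q.left s) at h
    rw [h]
    exact (q.left s).2
  let cW : Cw ⟶ ZW := Over.homMk (IsOpenImmersion.lift O.ι c.left hrange) (by
    change IsOpenImmersion.lift O.ι c.left hrange ≫ O.ι ≫ ZN.hom = Cw.hom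
    rw [IsOpenImmersion.lift_fac_assoc, Over.w c])
  have hcW : cW ≫ iZ = c := Over.OverMorphism.ext (IsOpenImmersion.lift_fac _ _ hrange)
  have hcWj : cW ≫ jW = q := by
    rw [← cancel_mono ιW, Category.assoc, hjW, ← Category.assoc, hcW, hcj]
  have h1 : toC ≫ cW = 𝟙 ZW := by
    rw [← cancel_mono iZ, Category.assoc, hcW, Category.id_comp]
    apply eN.homEquiv.injective
    rw [eN.homEquiv_comp]
    refine Subtype.ext ?_
    change (AMonS S ↥N ◁ toC) ≫ (eN.homEquiv c).1 = gz.1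
    rw [hc1, ← hδf, ← Category.assoc]
    refine congrArg (· ≫ f) (ext_unique (a := aU) (x := y ≫ fst U W') ?_ hδext)
    rw [← whisker_exchange_assoc, hδC, ← orbit_comp, ← Category.assoc toC, htop]
  have h2 : cW ≫ toC = 𝟙 Cw := by
    rw [← cancel_mono p, Category.assoc, htop, Category.id_comp]
    apply CartesianMonoidalCategory.hom_ext
    · rw [Category.assoc, lift_fst]
      have hpull : (AMonS S ↥N ◁ cW) ≫ δ = δC := by
        rw [← cancel_mono f, Category.assoc, hδf, ← hc1]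
        have h := congrArg Subtype.val (eN.homEquiv_comp cW iZ)
        rw [hcW] at h
        exact h.symm
      rw [← eval_of_ext hδC, ← hpull, lift_whiskerLeft_assoc, comp_lift_assoc, comp_toUnit_assoc,
        Category.comp_id, Category.id_comp]
    · rw [Category.assoc, lift_snd, hcWj]
  let eσ : C ≅ CommRingCat.of (SymmetricAlgebra B P) := σ.toRingEquiv.toCommRingCatIso
  let e₁ : (↑O : Scheme.{u}) ≅ Spec C := (Over.forget S).mapIso (⟨toC, cW, h1, h2⟩ : ZW ≅ Cw)
  refine ⟨e₁ ≪≫ (Scheme.Spec.mapIso eσ.symm.op), ?_⟩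
  have hsig : CommRingCat.ofHom (algebraMap B (SymmetricAlgebra B P)) ≫ eσ.inv = γBC :=
    CommRingCat.hom_ext (RingHom.ext fun b => σ.symm.commutes b)
  change (toC.left ≫ Spec.map eσ.inv) ≫ _ = _
  rw [Category.assoc, ← Spec.map_comp, hsig]
  have hql : Spec.map γBC = q.left ≫ hW.isoSpec.hom := by
    refine ext_of_isAffine (CommRingCat.hom_ext (RingHom.ext fun b => ?_))
    obtain ⟨b, rfl⟩ := (Scheme.ΓSpecIso Γ(Z0.left, W)).commRingCatIsoToRingEquiv.symm.surjective b
    change (Spec.map γBC).appTop ((Scheme.ΓSpecIso _).inv b) = (q.left ≫ hW.isoSpec.hom).appTop _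
    rw [← ConcreteCategory.comp_apply, ← Scheme.ΓSpecIso_inv_naturality, Scheme.Hom.comp_appTop,
      ConcreteCategory.comp_apply, ConcreteCategory.comp_apply]
    refine (hq b).symm.trans (congrArg q.left.appTop ?_)
    rw [IsAffineOpen.isoSpec_hom, Scheme.Opens.toSpecΓ_appTop, ConcreteCategory.comp_apply]
    exact congrArg _ (Iso.inv_hom_id_apply (Scheme.ΓSpecIso Γ(Z0.left, W)) b).symm
  rw [hql, ← Category.assoc, ← Over.comp_left, htoq]
  rfl

end MagnetLib
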